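import Groth.Agent.H24SmDef.VF
import Groth.Agent.H06FlatCx.HomologyClass
import Groth.Agent.H10Coh.SheafHom.Adj
import Groth.Agent.H29RR.FiniteSupport
import Groth.Agent.H29Ref.HomSections
import Groth.Agent.H29Omega.SheafFinite
import Groth.Agent.H17.ConsModModels
import Groth.Agent.H24DefTan.Finite

/-!
# Čech classes of vector fields
-/

set_option autoImplicit false
set_option linter.style.haveILetI false

universe u

open CategoryTheory CategoryTheory.Limits AlgebraicGeometry TopologicalSpace Opposite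

noncomputable section

namespace Groth.Agent.H24SmDef

open Groth.Agent.H24DefTan Groth.Agent.H15Site Groth.Agent.LeadBC

variable {k : Type u} [Field k] {X : Scheme.{u}} [X.Over (Spec (CommRingCat.of k))]

attribute [local instance 10000] H10Coh.hasSheafifyAb H10Coh.hasWeakSheafifyAb H10Coh.hasExtAb H10Coh.enoughInjAb

/-- Isomorphic modules have isomorphic sheaf Homs. -/
def sheafHomCongr {F F' : X.Modules} (e : F ≅ F') [DCoh.HasSheafHom F] [DCoh.HasSheafHom F'] :
    DCoh.sheafHom F ≅ DCoh.sheafHom F' :=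
  Adjunction.rightAdjointUniq (DCoh.sheafHomAdj F)
    ((DCoh.sheafHomAdj F').ofNatIsoLeft ((DCoh.tensorBi (X := X)).mapIso e.symm))

/-- The sheaf of vector fields is the dual of the differentials. -/
def tshIso [DCoh.HasSheafHom (Omega.sheaf (str k X))] :
    Tsh k X ≅ (DCoh.sheafHom (Omega.sheaf (str k X))).obj (Coh.structureModule X) :=
  haveI := H10Coh.SheafHom.hasSheafHom ((Scheme.Modules.pullback (𝟙 X)).obj (Omega.sheaf (str k X)))
  (H10Coh.SheafHom.homShIso _ _).symm ≪≫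
    (sheafHomCongr (F' := Omega.sheaf (str k X)) ((Scheme.Modules.pullbackId X).app (Omega.sheaf (str k X)))).app _

theorem isQuasicoherent_tsh [LocallyOfFiniteType (str k X)] : (Tsh k X).IsQuasicoherent := by
  haveI : IsLocallyNoetherian X := LocallyOfFiniteType.isLocallyNoetherian (str k X)
  exact (H29Ref.isCoh_homSh _ _
    (H17.ConsProp.isCoh_pullback (𝟙 X) (H17.ConsProp.isCoh_of_isFP (H29Omega.isFP_sheaf (str k X))))
    (H10Coh.isCoh_structureModule' _)).1

variable {ι : Type u} (U : ι → X.Opens)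

/-- Cochains of vector fields. -/
abbrev Kt (p : ℕ) : Type u := Kp k U (Tsh k X) p

theorem isAffineOpen_capU [X.IsSeparated] (hU : ∀ j, IsAffineOpen (U j)) {n : ℕ} (a : Fin (n + 1) → ι) :
    IsAffineOpen (CechTop.cap U a) :=
  IsAffineOpen.iInf fun _ => hU _

theorem goodCover [X.IsSeparated] (hU : ∀ j, IsAffineOpen (U j)) (hcov : iSup U = ⊤) :
    GoodCover U :=
  ⟨fun _ a => isAffineOpen_capU U hU a, hcov.ge⟩

/-- Cocycles are cycles of the complex. -/
def toCyc (p : ℕ) : LinearMap.ker (dK k U (Tsh k X) p) →ₗ[k]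
    LinearMap.ker ((KC k U (Tsh k X)).d p (p + 1)).hom where
  toFun v := ⟨v.1, (congr($(KC_d k U (Tsh k X) p).hom v.1)).trans v.2⟩
  map_add' _ _ := rfl
  map_smul' _ _ := rfl

variable {U}

section

variable [LocallyOfFiniteType (str k X)] [X.IsSeparated] [DCoh.HasSheafHom (Omega.sheaf (str k X))]
  (hU : ∀ j, IsAffineOpen (U j)) (hcov : iSup U = ⊤)

/-- The class in the cohomology of the tangent sheaf of a cocycle. -/
def clsT (p : ℕ) : LinearMap.ker (dK k U (Tsh k X) p) →ₗ[k]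
    Coh.HH X ((DCoh.sheafHom (Omega.sheaf (str k X))).obj (Coh.structureModule X)) p :=
  haveI := isQuasicoherent_tsh (k := k) (X := X)
  ((eHH k (goodCover U hU hcov) (Tsh k X) p).trans (H29RR.hhIso tshIso p)).toLinearMap.comp
    ((H06FlatCx.cls (KC k U (Tsh k X)) (j := p) (k := p + 1) (CochainComplex.next ℕ p)).comp
      (toCyc U p))

theorem clsT_eq_zero_iff (p : ℕ) (v : LinearMap.ker (dK k U (Tsh k X) (p + 1))) :
    clsT hU hcov (p + 1) v = 0 ↔ ∃ w, dK k U (Tsh k X) p w = v.1 := by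
  haveI := isQuasicoherent_tsh (k := k) (X := X)
  rw [clsT, LinearMap.comp_apply, LinearEquiv.coe_coe, LinearEquiv.map_eq_zero_iff, LinearMap.comp_apply,
    H06FlatCx.cls_eq_zero_iff _ (i := p) (CochainComplex.prev_nat_succ p)]
  have hd : ∀ w, ((KC k U (Tsh k X)).d p (p + 1)).hom w = dK k U (Tsh k X) p w := fun w =>
    congr($(KC_d k U (Tsh k X) p).hom w)
  exact ⟨fun ⟨w, hw⟩ => ⟨w, (hd w).symm.trans hw⟩, fun ⟨w, hw⟩ => ⟨w, (hd w).trans hw⟩⟩

theorem clsT_eq_zero_iff_two (v : LinearMap.ker (dK k U (Tsh k X) 2)) :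
    clsT hU hcov 2 v = 0 ↔ ∃ w, dK k U (Tsh k X) 1 w = v.1 := by
  haveI := isQuasicoherent_tsh (k := k) (X := X)
  rw [clsT, LinearMap.comp_apply, LinearEquiv.coe_coe, LinearEquiv.map_eq_zero_iff, LinearMap.comp_apply,
    H06FlatCx.cls_eq_zero_iff _ (i := 1) (show (ComplexShape.up ℕ).prev 2 = 1 from CochainComplex.prev_nat_succ 1)]
  have hd : ∀ w, ((KC k U (Tsh k X)).d 1 2).hom w = dK k U (Tsh k X) 1 w := fun w =>
    congr($(KC_d k U (Tsh k X) 1).hom w)
  exact ⟨fun ⟨w, hw⟩ => ⟨w, (hd w).symm.trans hw⟩, fun ⟨w, hw⟩ => ⟨w, (hd w).trans hw⟩⟩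

theorem clsT_eq_zero_iff_one (v : LinearMap.ker (dK k U (Tsh k X) 1)) :
    clsT hU hcov 1 v = 0 ↔ ∃ w, dK k U (Tsh k X) 0 w = v.1 := by
  haveI := isQuasicoherent_tsh (k := k) (X := X)
  rw [clsT, LinearMap.comp_apply, LinearEquiv.coe_coe, LinearEquiv.map_eq_zero_iff, LinearMap.comp_apply,
    H06FlatCx.cls_eq_zero_iff _ (i := 0) (show (ComplexShape.up ℕ).prev 1 = 0 from CochainComplex.prev_nat_succ 0)]
  have hd : ∀ w, ((KC k U (Tsh k X)).d 0 1).hom w = dK k U (Tsh k X) 0 w := fun w =>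
    congr($(KC_d k U (Tsh k X) 0).hom w)
  exact ⟨fun ⟨w, hw⟩ => ⟨w, (hd w).symm.trans hw⟩, fun ⟨w, hw⟩ => ⟨w, (hd w).trans hw⟩⟩

theorem clsT_surjective (p : ℕ) : Function.Surjective (clsT (k := k) hU hcov p) := by
  haveI := isQuasicoherent_tsh (k := k) (X := X)
  intro z
  obtain ⟨y, hy⟩ := H06FlatCx.cls_surjective (KC k U (Tsh k X)) (j := p) (k := p + 1) (CochainComplex.next ℕ p)
    (((eHH k (goodCover U hU hcov) (Tsh k X) p).trans (H29RR.hhIso tshIso p)).symm z)
  refine ⟨⟨y.1, (congr($(KC_d k U (Tsh k X) p).hom y.1)).symm.trans y.2⟩, ?_⟩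
  rw [clsT, LinearMap.comp_apply, LinearMap.comp_apply]
  refine (congrArg _ ((congrArg _ (Subtype.ext rfl)).trans hy)).trans ?_
  exact LinearEquiv.apply_symm_apply _ z

end

end Groth.Agent.H24SmDef
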