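import Groth.Agent.H24SmDef.Fam

/-!
# Elements killed by the maximal ideal times functions on the closed fibre
-/

set_option autoImplicit false
set_option linter.style.haveILetI false

universe u

open CategoryTheory CategoryTheory.Limits AlgebraicGeometry IsLocalRing ArtFun ArtFun.Art Opposite
open TopologicalSpace

noncomputable section

namespace Groth.Agent.H24SmDef

open Groth.Agent.H24DefTan

variable {k : Type u} [Field k] {X : Scheme.{u}} {x : X ⟶ specPt k} {A B : Art k k} {n m : ℕ}

/-- A finite family in the maximal ideal killed by the maximal ideal. -/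
structure Killed (b : Fin n → B) : Prop where
  mem : ∀ i, b i ∈ maximalIdeal B
  mul : ∀ i, ∀ a ∈ maximalIdeal B, a * b i = 0

theorem mul_eq_smul {b : Fin n → B} (hb : Killed b) (a : B) (i : Fin n) : a * b i = B.res a • b i := by
  have h : a - algebraMap k B (B.res a) ∈ maximalIdeal B := by
    rw [mem_maximalIdeal_iff, map_sub, B.res.commutes]
    exact sub_self _
  have := hb.mul i _ h
  rw [sub_mul, sub_eq_zero] at this
  rw [Algebra.smul_def, this]

theorem Killed.map {b : Fin n → A} (hb : Killed b) (g : A ⟶ B) (hg : Function.Surjective g) :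
    Killed (fun i => g (b i)) where
  mem i := by
    have := hb.mem i
    rw [mem_maximalIdeal_iff] at this ⊢
    rw [res_app, this]
  mul i a ha := by
    obtain ⟨a, rfl⟩ := hg a
    rw [mem_maximalIdeal_iff, res_app, ← mem_maximalIdeal_iff] at ha
    have := hb.mul i a ha
    show g.toAlgHom a * g.toAlgHom (b i) = 0
    rw [← map_mul, this, map_zero]

theorem killed_of_semismall {p : A ⟶ B} (hp : IsSemismallExt p) {b : Fin n → A}
    (hb : ∀ i, p (b i) = 0) : Killed b where
  mem i := by
    rw [mem_maximalIdeal_iff, ← res_app p, hb i, map_zero]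
  mul i a ha := by
    have : a * b i ∈ maximalIdeal A * RingHom.ker p.toAlgHom :=
      Ideal.mul_mem_mul ha (RingHom.mem_ker.2 (hb i))
    rwa [hp.2, Ideal.mem_bot] at this

section

variable (ξ : DefSch X x B) {b : Fin n → B} (hb : Killed b)

include hb in
theorem sc_mul_eq_zero {W : X.Opens} (hW : IsAffineOpen W) (i : Fin n) {r : S ξ W} (h : red ξ W r = 0) :
    sc ξ W (b i) * r = 0 := by
  rw [red_eq_zero_iff ξ hW] at h
  refine Submodule.span_induction (fun z hz => ?_) (mul_zero _) (fun z w _ _ hz hw => by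
    rw [mul_add, hz, hw, add_zero]) (fun c z _ hz => by rw [smul_eq_mul, mul_left_comm, hz, mul_zero]) h
  obtain ⟨a, ha, rfl⟩ := hz
  rw [← map_mul, mul_comm (b i) a, hb.mul i a ha, map_zero]

/-- `∑ bᵢ ãᵢ`. -/
def emb {W : X.Opens} (hW : IsAffineOpen W) : (Fin n → Γ(X, W)) →+ S ξ W where
  toFun a := ∑ i, sc ξ W (b i) * (red_surjective ξ hW (a i)).choose
  map_zero' := Finset.sum_eq_zero fun i _ =>
    sc_mul_eq_zero ξ hb hW i (red_surjective ξ hW ((0 : Fin n → Γ(X, W)) i)).choose_spec
  map_add' a c := by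
    rw [← Finset.sum_add_distrib]
    refine Finset.sum_congr rfl fun i _ => sub_eq_zero.1 ?_
    rw [← mul_add, ← mul_sub]
    refine sc_mul_eq_zero ξ hb hW i ?_
    rw [map_sub, map_add, (red_surjective ξ hW _).choose_spec, (red_surjective ξ hW _).choose_spec,
      (red_surjective ξ hW _).choose_spec]
    exact sub_self _

variable {W : X.Opens} (hW : IsAffineOpen W)

theorem emb_eq (f : Fin n → S ξ W) (a : Fin n → Γ(X, W)) (h : ∀ i, red ξ W (f i) = a i) :
    emb ξ hb hW a = ∑ i, sc ξ W (b i) * f i := by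
  show ∑ i, sc ξ W (b i) * (red_surjective ξ hW (a i)).choose = _
  refine Finset.sum_congr rfl fun i _ => sub_eq_zero.1 ?_
  rw [← mul_sub]
  refine sc_mul_eq_zero ξ hb hW i ?_
  rw [map_sub, (red_surjective ξ hW _).choose_spec, h i, sub_self]

include hW in
theorem exists_lifts (a : Fin n → Γ(X, W)) : ∃ f : Fin n → S ξ W, ∀ i, red ξ W (f i) = a i :=
  ⟨fun i => (red_surjective ξ hW (a i)).choose, fun i => (red_surjective ξ hW (a i)).choose_spec⟩

theorem red_emb (a : Fin n → Γ(X, W)) : red ξ W (emb ξ hb hW a) = 0 := by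
  obtain ⟨f, hf⟩ := exists_lifts ξ hW a
  rw [emb_eq ξ hb hW f a hf, map_sum]
  refine Finset.sum_eq_zero fun i _ => ?_
  rw [map_mul, red_sc, (mem_maximalIdeal_iff B (b i)).1 (hb.mem i), map_zero, zero_mul]

theorem mul_emb (r : S ξ W) (a : Fin n → Γ(X, W)) :
    r * emb ξ hb hW a = emb ξ hb hW (fun i => red ξ W r * a i) := by
  obtain ⟨f, hf⟩ := exists_lifts ξ hW a
  rw [emb_eq ξ hb hW f a hf, emb_eq ξ hb hW (fun i => r * f i) _ fun i => by rw [map_mul, hf], Finset.mul_sum]
  exact Finset.sum_congr rfl fun i _ => mul_left_comm _ _ _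

theorem emb_mul_emb (a c : Fin n → Γ(X, W)) : emb ξ hb hW a * emb ξ hb hW c = 0 := by
  rw [mul_emb, red_emb]
  simp only [zero_mul]
  exact map_zero (emb ξ hb hW)

theorem rs_emb {W' : X.Opens} (hW' : IsAffineOpen W') (h : W' ≤ W) (a : Fin n → Γ(X, W)) :
    rs ξ h (emb ξ hb hW a) = emb ξ hb hW' (fun i => r0 h (a i)) := by
  obtain ⟨f, hf⟩ := exists_lifts ξ hW a
  rw [emb_eq ξ hb hW f a hf, emb_eq ξ hb hW' (fun i => rs ξ h (f i)) _ fun i => by rw [red_rs, hf], map_sum]
  exact Finset.sum_congr rfl fun i _ => by rw [map_mul, rs_sc]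

theorem exists_emb {r : S ξ W} (h : r ∈ (Ideal.span (Set.range b)).map (sc ξ W)) :
    ∃ a, emb ξ hb hW a = r := by
  rw [Ideal.map_span, ← Set.range_comp] at h
  obtain ⟨c, hc⟩ := Ideal.mem_span_range_iff_exists_fun.1 h
  refine ⟨fun i => red ξ W (c i), ?_⟩
  rw [emb_eq ξ hb hW c _ fun _ => rfl, ← hc]
  exact Finset.sum_congr rfl fun i _ => mul_comm _ _

theorem emb_injective (hli : LinearIndependent k b) : Function.Injective (emb ξ hb hW) := by
  classical
  refine (injective_iff_map_eq_zero _).2 fun a ha => funext fun i => ?_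
  obtain ⟨f, hf⟩ := exists_lifts ξ hW a
  rw [emb_eq ξ hb hW f a hf] at ha
  show a i = 0
  rw [← hf i]
  let b' : Fin n → B := fun j => if j = i then 0 else b j
  refine mem_of_mul_mem ξ hW (J := Ideal.span (Set.range b')) (t := b i) (fun c => ⟨fun hc => ?_, fun hc => ?_⟩) ?_
  · obtain ⟨d, hd⟩ := Ideal.mem_span_range_iff_exists_fun.1 hc
    rw [mem_maximalIdeal_iff]
    let e : Fin n → k := fun j => if j = i then B.res c else - B.res (d j)
    have he : ∑ j, e j • b j = 0 := by
      rw [← Finset.add_sum_erase _ _ (Finset.mem_univ i)] at hd ⊢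
      have h0 : d i * b' i = 0 := by simp [b']
      rw [h0, zero_add] at hd
      have h1 : ∑ j ∈ Finset.univ.erase i, e j • b j = - ∑ j ∈ Finset.univ.erase i, d j * b' j := by
        rw [← Finset.sum_neg_distrib]
        refine Finset.sum_congr rfl fun j hj => ?_
        have hji := (Finset.mem_erase.1 hj).1
        simp only [e, b', if_neg hji]
        rw [mul_eq_smul hb, neg_smul]
      rw [h1, hd, show e i = B.res c from if_pos rfl, ← mul_eq_smul hb, add_neg_cancel]
    have := Fintype.linearIndependent_iff.1 hli e he i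
    rwa [show e i = B.res c from if_pos rfl] at this
  · rw [hb.mul i c hc]
    exact zero_mem _
  · rw [← Finset.add_sum_erase _ _ (Finset.mem_univ i)] at ha
    rw [eq_neg_of_add_eq_zero_left ha]
    refine neg_mem (Ideal.sum_mem _ fun j hj => Ideal.mul_mem_right _ _ (Ideal.mem_map_of_mem _ ?_))
    refine Ideal.subset_span ⟨j, ?_⟩
    simp only [b', if_neg (Finset.mem_erase.1 hj).1]

/-- Change of the family. -/
theorem emb_change {b' : Fin m → B} (hb' : Killed b') (c : Fin n → Fin m → k)
    (hc : ∀ i, b i = ∑ l, c i l • b' l) (a : Fin n → Γ(X, W)) :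
    emb ξ hb hW a = emb ξ hb' hW (fun l => ∑ i, H24Def.scalar x W (c i l) * a i) := by
  obtain ⟨f, hf⟩ := exists_lifts ξ hW a
  rw [emb_eq ξ hb hW f a hf, emb_eq ξ hb' hW (fun l => ∑ i, sc ξ W (algebraMap k B (c i l)) * f i) _ fun l => by
    rw [map_sum]
    refine Finset.sum_congr rfl fun i _ => ?_
    rw [map_mul, red_sc, hf, B.res.commutes]
    rfl]
  simp only [Finset.mul_sum]
  rw [Finset.sum_comm]
  refine Finset.sum_congr rfl fun i _ => ?_
  rw [hc i, map_sum, Finset.sum_mul]
  refine Finset.sum_congr rfl fun l _ => ?_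
  rw [Algebra.smul_def, map_mul]
  ring

end

theorem Fam.app_emb {g : A ⟶ B} {η : DefSch X x A} {ξ : DefSch X x B} {Bp : X.Opens → Prop}
    (φ : Fam g η ξ Bp) {b : Fin n → A} (hb : Killed b) (hb' : Killed (fun i => g (b i))) {W : X.Opens}
    (hB : Bp W) (hW : IsAffineOpen W) (a : Fin n → Γ(X, W)) :
    φ.app W hB (emb η hb hW a) = emb ξ hb' hW a := by
  obtain ⟨f, hf⟩ := exists_lifts η hW a
  rw [emb_eq η hb hW f a hf, emb_eq ξ hb' hW (fun i => φ.app W hB (f i)) _ fun i => by rw [φ.red_app, hf],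
    map_sum]
  exact Finset.sum_congr rfl fun i _ => by rw [map_mul, φ.app_sc]

theorem Fam.app_emb' {η ξ : DefSch X x A} {Bp : X.Opens → Prop}
    (φ : Fam (𝟙 A) η ξ Bp) {b : Fin n → A} (hb : Killed b) {W : X.Opens}
    (hB : Bp W) (hW : IsAffineOpen W) (a : Fin n → Γ(X, W)) :
    φ.app W hB (emb η hb hW a) = emb ξ hb hW a :=
  φ.app_emb hb (hb' := hb) hB hW a

end Groth.Agent.H24SmDef
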