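import Groth.Agent.H24SmDef.ObsTheory

/-!
# Extensions of a deformation of a smooth scheme along a small extension
-/

set_option autoImplicit false
set_option linter.style.haveILetI false

universe u

open CategoryTheory CategoryTheory.Limits AlgebraicGeometry IsLocalRing ArtFun ArtFun.Art Opposite
open TopologicalSpace
open scoped TensorProduct

noncomputable section

namespace Groth.Agent.H24SmDef

open Groth.Agent.H24DefTan Groth.Agent.H15Site Groth.Agent.LeadBC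

attribute [local instance 10000] H10Coh.hasSheafifyAb H10Coh.hasWeakSheafifyAb H10Coh.hasExtAb H10Coh.enoughInjAb

variable {k : Type u} [Field k] {X : Scheme.{u}} [X.Over (Spec (CommRingCat.of k))] [QuasiSeparated (str k X)]
variable {ι : Type u} {U : ι → X.Opens} {C' C : Art k k}

omit [QuasiSeparated (str k X)] in
/-- Morphisms of deformations are determined by their maps on sections over a cover. -/
theorem mor_ext {A B : Art k k} {g : A ⟶ B} {η : DefSch X (str k X) A} {ζ : DefSch X (str k X) B}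
    (hU : ∀ j, IsAffineOpen (U j)) (hcov : iSup U = ⊤) {m m' : Mor g η ζ}
    (h : ∀ j r, m.app (U j) r = m'.app (U j) r) : m.hom = m'.hom := by
  refine Scheme.Cover.hom_ext (ζ.total.openCoverOfIsOpenCover (fun j => up ζ (U j)) (up_cover ζ hcov)) _ _
    fun j => ?_
  show (up ζ (U j)).ι ≫ m.hom = (up ζ (U j)).ι ≫ m'.hom
  have hO := isAffineOpen_up ζ (hU j)
  have hP := isAffineOpen_up η (hU j)
  rw [← cancel_epi hO.isoSpec.inv]
  show hO.fromSpec ≫ m.hom = hO.fromSpec ≫ m'.hom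
  rw [← IsAffineOpen.SpecMap_appLE_fromSpec m.hom hP hO (m.up_le _),
    ← IsAffineOpen.SpecMap_appLE_fromSpec m'.hom hP hO (m'.up_le _)]
  congr 2
  exact CommRingCat.hom_ext (RingHom.ext (h j))

/-- An extension of `ξ` along `p`. -/
structure Extn (p : C' ⟶ C) (ξ : DefSch X (str k X) C) : Type (u + 1) where
  /-- the extension -/
  η : DefSch X (str k X) C'
  /-- its reduction -/
  μ : Mor p η ξ

/-- Equivalence of extensions. -/
def Extn.Equiv {p : C' ⟶ C} {ξ : DefSch X (str k X) C} (E E' : Extn p ξ) : Prop :=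
  ∃ θ : Mor (𝟙 C') E.η E'.η, E'.μ.hom ≫ θ.hom = E.μ.hom

variable [LocallyOfFiniteType (str k X)] [X.IsSeparated] [DCoh.HasSheafHom (Omega.sheaf (str k X))]
  (hU : ∀ j, IsAffineOpen (U j)) (hcov : iSup U = ⊤)

/-- The first cohomology of the tangent sheaf. -/
abbrev H1T (k : Type u) [Field k] (X : Scheme.{u}) [X.Over (Spec (CommRingCat.of k))]
    [DCoh.HasSheafHom (Omega.sheaf (str k X))] : Type u :=
  Coh.HH X ((DCoh.sheafHom (Omega.sheaf (str k X))).obj (Coh.structureModule X)) 1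

variable {p : C' ⟶ C} (hp : IsSemismallExt p) {ξ : DefSch X (str k X) C}

/-- `w` records the differences of local comparisons with a fixed extension. -/
def HasTor (E₀ E : Extn p ξ)
    (w : Fin (Module.finrank k ↥(RingHom.ker p.toAlgHom)) → Kt (k := k) U 1) : Prop :=
  ∃ ψ : ∀ j, Fam (𝟙 C') E.η E₀.η (Af (U j)),
    (∀ j W (hW : Af (U j) W) (r : S E.η W), E₀.μ.app W ((ψ j).app W hW r) = E.μ.app W r) ∧
    ∀ (a : Fin 2 → ι) (W : X.Opens) (h₀ : Af (U (a 0)) W) (h₁ : Af (U (a 1)) W) (h : W ≤ CechTop.cap U a)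
      (r : S E.η W), (ψ (a 0)).app W h₀ r = (ψ (a 1)).app W h₁ r +
        emb E₀.η (killed_ker hp (kerBasis p)) h₀.1 (fun i => tv (w i a) W h (red E.η W r))

/-- `ω` is the class of `E` relative to `E₀`. -/
def IsTorClass (E₀ E : Extn p ξ) (ω : H1T k X ⊗[k] ↥(RingHom.ker p.toAlgHom)) : Prop :=
  ∃ (w : Fin (Module.finrank k ↥(RingHom.ker p.toAlgHom)) → Kt (k := k) U 1)
    (hw : ∀ i, w i ∈ LinearMap.ker (dK k U (Tsh k X) 1)),
    HasTor hp E₀ E w ∧ ω = ∑ i, clsT hU hcov 1 ⟨w i, hw i⟩ ⊗ₜ[k] kerBasis p i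

omit [LocallyOfFiniteType (str k X)] [X.IsSeparated] [DCoh.HasSheafHom (Omega.sheaf (str k X))] in
/-- `μ` kills `∑ bᵢ aᵢ`. -/
theorem mor_app_emb {η : DefSch X (str k X) C'} (μ : Mor p η ξ) {W : X.Opens} (hW : IsAffineOpen W)
    (a : Fin (Module.finrank k ↥(RingHom.ker p.toAlgHom)) → Γ(X, W)) :
    μ.app W (emb η (killed_ker hp (kerBasis p)) hW a) = 0 := by
  obtain ⟨f, hf⟩ := exists_lifts η hW a
  rw [emb_eq η _ hW f a hf, map_sum]
  refine Finset.sum_eq_zero fun i _ => ?_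
  rw [map_mul, Mor.app_sc, show p (kerBasis p i : C') = 0 from RingHom.mem_ker.1 (kerBasis p i).2, map_zero,
    zero_mul]

omit [LocallyOfFiniteType (str k X)] [DCoh.HasSheafHom (Omega.sheaf (str k X))] in
include hU in
theorem HasTor.dK_eq_zero {E₀ E : Extn p ξ}
    {w : Fin (Module.finrank k ↥(RingHom.ker p.toAlgHom)) → Kt (k := k) U 1} (h : HasTor hp E₀ E w)
    (i : Fin (Module.finrank k ↥(RingHom.ker p.toAlgHom))) : dK k U (Tsh k X) 1 (w i) = 0 := by
  obtain ⟨ψ, -, hd⟩ := h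
  funext a
  have hV := isAffineOpen_capU U hU a
  refine tv_ext hV fun r₀ => ?_
  obtain ⟨r, rfl⟩ := red_surjective E.η hV r₀
  have hle : ∀ l, CechTop.cap U a ≤ U (a l) := fun l => iInf_le _ l
  let ev : ∀ (c : Fin 2 → Fin 3), Fin _ → Γ(X, CechTop.cap U a) := fun c i =>
    tv (w i (a ∘ c)) _ (le_cap_two (hle (c 0)) (hle (c 1))) (red E.η _ r)
  have key : ∀ c : Fin 2 → Fin 3, (ψ (a (c 0))).app _ ⟨hV, hle (c 0)⟩ r =
      (ψ (a (c 1))).app _ ⟨hV, hle (c 1)⟩ r + emb E₀.η (killed_ker hp (kerBasis p)) hV (ev c) := fun c =>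
    hd (a ∘ c) _ ⟨hV, hle (c 0)⟩ ⟨hV, hle (c 1)⟩ (le_cap_two (hle (c 0)) (hle (c 1))) r
  have k12 := key ![1, 2]
  have k02 := key ![0, 2]
  have k01 := key ![0, 1]
  simp only [Matrix.cons_val_zero, Matrix.cons_val_one, Matrix.head_cons] at k12 k02 k01
  have h' : emb E₀.η (killed_ker hp (kerBasis p)) hV (ev ![1, 2] + ev ![0, 1]) =
      emb E₀.η (killed_ker hp (kerBasis p)) hV (ev ![0, 2]) := by
    rw [map_add]
    linear_combination k02 - k12 - k01
  have hc := congrFun (emb_injective E₀.η (killed_ker hp (kerBasis p)) hV (kerBasis_spec p).1 h') i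
  have e0 : (0 : Fin 3).succAbove = ![1, 2] := by decide
  have e1 : (1 : Fin 3).succAbove = ![0, 2] := by decide
  have e2 : (2 : Fin 3).succAbove = ![0, 1] := by decide
  have eq' : ∀ (c c' : Fin 2 → ι) (_ : c = c') (q : CechTop.cap U a ≤ CechTop.cap U c)
      (q' : CechTop.cap U a ≤ CechTop.cap U c') (z : Γ(X, CechTop.cap U a)),
      tv (w i c) _ q z = tv (w i c') _ q' z := by rintro c _ rfl q q' z; rfl
  show tv (dK k U (Tsh k X) 1 (w i) a) _ _ (red E.η _ r) = tv 0 _ _ (red E.η _ r)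
  rw [dK_apply, Fin.sum_univ_three]
  simp only [Fin.val_zero, pow_zero, one_smul, Fin.val_one, pow_one, neg_smul, Fin.val_two, neg_one_sq]
  rw [tv_add, tv_add, tv_neg, tv_zero, tv_resL, tv_resL, tv_resL,
    eq' (a ∘ (0 : Fin 3).succAbove) (a ∘ ![1, 2]) (by rw [e0]) _ (le_cap_two (hle 1) (hle 2)),
    eq' (a ∘ (1 : Fin 3).succAbove) (a ∘ ![0, 2]) (by rw [e1]) _ (le_cap_two (hle 0) (hle 2)),
    eq' (a ∘ (2 : Fin 3).succAbove) (a ∘ ![0, 1]) (by rw [e2]) _ (le_cap_two (hle 0) (hle 1))]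
  simp only [ev, Pi.add_apply] at hc
  linear_combination hc

omit [X.IsSeparated] [LocallyOfFiniteType (str k X)] [DCoh.HasSheafHom (Omega.sheaf (str k X))] in
/-- Changing the comparisons by vector fields. -/
theorem HasTor.change {E₀ E : Extn p ξ}
    {w : Fin (Module.finrank k ↥(RingHom.ker p.toAlgHom)) → Kt (k := k) U 1} (h : HasTor hp E₀ E w)
    (u : Fin (Module.finrank k ↥(RingHom.ker p.toAlgHom)) → Kt (k := k) U 0) :
    HasTor hp E₀ E (fun i => w i - dK k U (Tsh k X) 0 (u i)) := by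
  obtain ⟨ψ, hμ, hd⟩ := h
  have hle : ∀ j : ι, U j ≤ CechTop.cap U (fun _ : Fin 1 => j) := fun j => le_iInf fun _ => le_rfl
  refine ⟨fun j => (ψ j).add (killed_ker hp (kerBasis p)) (fun _ hW => hW.1)
    (P := CechTop.cap U (fun _ : Fin 1 => j)) (fun W hW => hW.2.trans (hle j)) (fun i => u i fun _ => j),
    fun j W hW r => ?_, fun a W h₀ h₁ hW r => ?_⟩
  · rw [Fam.add_app, map_add, hμ, mor_app_emb hp, add_zero]
  · rw [Fam.add_app, Fam.add_app, hd a W h₀ h₁ hW r]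
    have e0 : (a ∘ (0 : Fin 2).succAbove) = fun _ => a 1 := funext fun i => by fin_cases i; rfl
    have e1 : (a ∘ (1 : Fin 2).succAbove) = fun _ => a 0 := funext fun i => by fin_cases i; rfl
    have hy : ∀ i (b b' : Fin 1 → ι) (_ : b = b') (q : W ≤ CechTop.cap U b) (q' : W ≤ CechTop.cap U b')
        (z : Γ(X, W)), tv (u i b) W q z = tv (u i b') W q' z := by rintro i b _ rfl q q' z; rfl
    have hfun : (fun i => tv ((w i - dK k U (Tsh k X) 0 (u i)) a) W hW (red E.η W r)) =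
        (fun i => tv (w i a) W hW (red E.η W r)) +
          ((fun i => tv (u i fun _ => a 0) W (h₀.2.trans (hle _)) (red E.η W r)) -
            fun i => tv (u i fun _ => a 1) W (h₁.2.trans (hle _)) (red E.η W r)) := funext fun i => by
      rw [Pi.add_apply, Pi.sub_apply, Pi.sub_apply, tv_sub, dK_apply, Fin.sum_univ_two]
      simp only [Fin.val_zero, pow_zero, one_smul, Fin.val_one, pow_one, neg_smul]
      rw [tv_add, tv_neg, tv_resL, tv_resL, hy i _ _ e0 _ (h₁.2.trans (hle _)),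
        hy i _ _ e1 _ (h₀.2.trans (hle _))]
      ring
    rw [hfun, map_add, map_sub]
    ring

variable [Smooth (str k X)]

omit [LocallyOfFiniteType (str k X)] [DCoh.HasSheafHom (Omega.sheaf (str k X))] in
include hU in
theorem exists_hasTor (E₀ E : Extn p ξ) : ∃ w, HasTor (U := U) hp E₀ E w := by
  choose ψ hψ using fun j => Fam.exists_lift (g := 𝟙 C') (g₀ := p) (fun _ => rfl) hp.1 (hU j)
    (Fam.ofMor E₀.μ (Af (U j))) (Fam.ofMor E.μ (Af (U j)))
  have hex : ∀ a : Fin 2 → ι, ∃ s : Fin (Module.finrank k ↥(RingHom.ker p.toAlgHom)) → V1 k X (CechTop.cap U a),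
      ∀ W (hW : Af (CechTop.cap U a) W) (r : S E.η W),
        (ψ (a 0)).app W ⟨hW.1, hW.2.trans (iInf_le _ _)⟩ r =
          (ψ (a 1)).app W ⟨hW.1, hW.2.trans (iInf_le _ _)⟩ r +
            emb E₀.η (killed_ker hp (kerBasis p)) hW.1 (fun i => tv (s i) W hW.2 (red E.η W r)) := by
    intro a
    have hV := isAffineOpen_capU U hU a
    refine Fam.exists_diff _ (kerBasis_spec p).1 hV
      ((ψ (a 1)).mono fun W hW => ⟨hW.1, hW.2.trans (iInf_le _ _)⟩)
      ((ψ (a 0)).mono fun W hW => ⟨hW.1, hW.2.trans (iInf_le _ _)⟩) fun r => ?_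
    refine Ideal.map_mono (kerBasis_spec p).2 ?_
    rw [← ((Fam.ofMor E₀.μ fun _ => True).surjective_and_ker hp.1 trivial hV).2, map_sub, sub_eq_zero]
    exact (hψ (a 0) _ _ r).trans (hψ (a 1) _ _ r).symm
  choose s hs using hex
  exact ⟨fun i a => s a i, ψ, fun j W hW r => hψ j W hW r, fun a W h₀ h₁ h r => hs a W ⟨h₀.1, h⟩ r⟩

theorem exists_isTorClass (E₀ E : Extn p ξ) : ∃ ω, IsTorClass hU hcov hp E₀ E ω := by
  obtain ⟨w, hw⟩ := exists_hasTor hU hp E₀ E
  exact ⟨_, w, fun i => hw.dK_eq_zero hU hp i, hw, rfl⟩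

omit [LocallyOfFiniteType (str k X)] [DCoh.HasSheafHom (Omega.sheaf (str k X))] in
include hU in
theorem HasTor.exists_coboundary {E₀ E : Extn p ξ}
    {w w' : Fin (Module.finrank k ↥(RingHom.ker p.toAlgHom)) → Kt (k := k) U 1}
    (h : HasTor hp E₀ E w) (h' : HasTor hp E₀ E w') (i : Fin (Module.finrank k ↥(RingHom.ker p.toAlgHom))) :
    ∃ u, dK k U (Tsh k X) 0 u = w' i - w i := by
  obtain ⟨ψ, hμ, hd⟩ := h
  obtain ⟨ψ', hμ', hd'⟩ := h'
  have hex : ∀ j : ι, ∃ s : Fin (Module.finrank k ↥(RingHom.ker p.toAlgHom)) → V1 k X (U j),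
      ∀ W (hW : Af (U j) W) (r : S E.η W), (ψ' j).app W hW r = (ψ j).app W hW r +
        emb E₀.η (killed_ker hp (kerBasis p)) hW.1 (fun i => tv (s i) W hW.2 (red E.η W r)) := fun j => by
    refine Fam.exists_diff _ (kerBasis_spec p).1 (hU j) (ψ j) (ψ' j) fun r => ?_
    refine Ideal.map_mono (kerBasis_spec p).2 ?_
    rw [← ((Fam.ofMor E₀.μ fun _ => True).surjective_and_ker hp.1 trivial (hU j)).2, map_sub, sub_eq_zero]
    exact (hμ' j _ _ r).trans (hμ j _ _ r).symm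
  choose s hs using hex
  refine ⟨fun b => -resL k (Tsh k X) (iInf_le _ 0) (s (b 0) i), ?_⟩
  funext a
  have hV := isAffineOpen_capU U hU a
  refine tv_ext hV fun r₀ => ?_
  obtain ⟨r, rfl⟩ := red_surjective E.η hV r₀
  have P : ∀ l, Af (U (a l)) (CechTop.cap U a) := fun l => ⟨hV, iInf_le _ l⟩
  have d := hd a _ (P 0) (P 1) le_rfl r
  have d' := hd' a _ (P 0) (P 1) le_rfl r
  rw [hs (a 0) _ (P 0), hs (a 1) _ (P 1), d] at d'
  let ev := fun l i => tv (s (a l) i) _ (P l).2 (red E.η _ r)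
  have h'' : emb E₀.η (killed_ker hp (kerBasis p)) hV
      ((fun i => tv (w i a) _ le_rfl (red E.η _ r)) + ev 0) =
      emb E₀.η (killed_ker hp (kerBasis p)) hV (ev 1 + fun i => tv (w' i a) _ le_rfl (red E.η _ r)) := by
    rw [map_add, map_add]
    linear_combination d'
  have hc := congrFun (emb_injective E₀.η (killed_ker hp (kerBasis p)) hV (kerBasis_spec p).1 h'') i
  show tv (dK k U (Tsh k X) 0 _ a) _ _ (red E.η _ r) = tv (w' i a - w i a) _ _ (red E.η _ r)
  rw [dK_apply, Fin.sum_univ_two]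
  simp only [Fin.val_zero, pow_zero, one_smul, Fin.val_one, pow_one, neg_smul]
  rw [tv_add, tv_neg, tv_sub, tv_resL, tv_resL, tv_neg, tv_neg, tv_resL, tv_resL]
  simp only [ev, Pi.add_apply] at hc
  show -tv (s (a 1) i) _ _ _ + - -tv (s (a 0) i) _ _ _ = _
  linear_combination hc

theorem IsTorClass.eq {E₀ E : Extn p ξ} {ω ω' : H1T k X ⊗[k] ↥(RingHom.ker p.toAlgHom)}
    (h : IsTorClass hU hcov hp E₀ E ω) (h' : IsTorClass hU hcov hp E₀ E ω') : ω = ω' := by
  obtain ⟨w, hw, hT, rfl⟩ := h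
  obtain ⟨w', hw', hT', rfl⟩ := h'
  refine Finset.sum_congr rfl fun i _ => ?_
  congr 1
  rw [← sub_eq_zero, ← map_sub, clsT_eq_zero_iff_one hU hcov]
  obtain ⟨u, hu⟩ := hT.exists_coboundary hU hp hT' i
  exact ⟨-u, by rw [map_neg, hu, neg_sub]; rfl⟩

omit [Smooth (str k X)] in
theorem IsTorClass.of_equiv {E₀ E E' : Extn p ξ} (he : E.Equiv E')
    {ω : H1T k X ⊗[k] ↥(RingHom.ker p.toAlgHom)} (h : IsTorClass hU hcov hp E₀ E' ω) :
    IsTorClass hU hcov hp E₀ E ω := by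
  obtain ⟨θ, hθ⟩ := he
  obtain ⟨w, hw, ⟨ψ, hμ, hd⟩, hω⟩ := h
  refine ⟨w, hw, ⟨fun j => (Fam.ofMor θ _).comp (ψ j), fun j W hW r => ?_, fun a W h₀ h₁ hW r => ?_⟩, hω⟩
  · refine (hμ j W hW _).trans ?_
    show (θ.hom.appLE _ _ _ ≫ E'.μ.hom.appLE _ _ _) r = E.μ.hom.appLE _ _ _ r
    rw [Scheme.Hom.appLE_comp_appLE]
    simp only [hθ]
  · refine (hd a W h₀ h₁ hW _).trans ?_
    rw [Fam.red_app]
    rfl

include hU hcov in
/-- Extensions with the same class are equivalent. -/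
theorem IsTorClass.equiv {E₀ E E' : Extn p ξ} {ω : H1T k X ⊗[k] ↥(RingHom.ker p.toAlgHom)}
    (h : IsTorClass hU hcov hp E₀ E ω) (h' : IsTorClass hU hcov hp E₀ E' ω) : E.Equiv E' := by
  obtain ⟨w, hw, hT, hω⟩ := h
  obtain ⟨w', hw', hT', hω'⟩ := h'
  have hu : ∀ i, ∃ u, dK k U (Tsh k X) 0 u = w' i - w i := fun i => by
    have h1 := coeff_eq_zero (R := k) (V := H1T k X) (J := ↥(RingHom.ker p.toAlgHom)) (kerBasis p)
      (v := fun l => clsT hU hcov 1 ⟨w' l, hw' l⟩ - clsT hU hcov 1 ⟨w l, hw l⟩) (by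
        simp only [TensorProduct.sub_tmul, Finset.sum_sub_distrib]
        rw [← hω, ← hω', sub_self]) i
    rw [← map_sub, clsT_eq_zero_iff_one hU hcov] at h1
    exact h1
  choose u hu using hu
  obtain ⟨ψ, hμ, hd⟩ := hT
  have hT'' : HasTor hp E₀ E' w := by
    have := hT'.change hp u
    simp only [hu, sub_sub_cancel] at this
    exact this
  obtain ⟨ψ', hμ', hd'⟩ := hT''
  let θ : ∀ j, Fam (𝟙 C') E.η E'.η (Af (U j)) := fun j => (ψ j).comp ((ψ' j).symm fun _ hW => hW.1)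
  obtain ⟨μ, hμθ⟩ := exists_mor_of_local hU hcov θ fun i j W hi hj r => by
    refine ((ψ' i).bijective_app hi hi.1).1 ?_
    have hW : W ≤ CechTop.cap U ![i, j] := le_cap_two (a := ![i, j]) hi.2 hj.2
    show (ψ' i).app W hi (((ψ' i).symm fun _ hW => hW.1).app W hi ((ψ i).app W hi r)) =
      (ψ' i).app W hi (((ψ' j).symm fun _ hW => hW.1).app W hj ((ψ j).app W hj r))
    rw [Fam.app_symm_app]
    have d := hd ![i, j] W hi hj hW r
    have d' := hd' ![i, j] W hi hj hW (((ψ' j).symm fun _ hW => hW.1).app W hj ((ψ j).app W hj r))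
    rw [Fam.red_app, Fam.red_app] at d'
    simp only [Matrix.cons_val_zero, Matrix.cons_val_one, Matrix.head_cons, Fam.app_symm_app] at d d'
    exact d.trans d'.symm
  refine ⟨μ, mor_ext hU hcov (m := ⟨E'.μ.hom ≫ μ.hom, ?_, ?_⟩) (m' := E.μ) fun j r => ?_⟩
  · rw [Category.assoc, μ.hom_f, specMap_id, Category.comp_id, E'.μ.hom_f]
  · rw [← Category.assoc, E'.μ.i_hom, μ.i_hom]
  · have hj : Af (U j) (U j) := ⟨hU j, le_rfl⟩
    show ((E'.μ.hom ≫ μ.hom).appLE _ _ _) r = _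
    rw [← Scheme.Hom.appLE_comp_appLE E'.μ.hom μ.hom _ _ _ (μ.up_le _) (E'.μ.up_le _)]
    show E'.μ.app _ (μ.app (U j) r) = E.μ.app _ r
    rw [hμθ j _ hj, ← hμ' j _ hj]
    show E₀.μ.app _ ((ψ' j).app _ hj (((ψ' j).symm fun _ hW => hW.1).app _ hj ((ψ j).app _ hj r))) = _
    rw [Fam.app_symm_app, hμ]

omit [Smooth (str k X)] in
theorem exists_coeff {R V J : Type u} [CommRing R] [AddCommMonoid V] [Module R V] [AddCommMonoid J] [Module R J]
    {κ : Type} [Fintype κ] (b : Module.Basis κ R J) (ω : V ⊗[R] J) : ∃ v : κ → V, ω = ∑ i, v i ⊗ₜ[R] b i := by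
  induction ω using TensorProduct.induction_on with
  | zero => exact ⟨0, by simp⟩
  | tmul a c =>
    refine ⟨fun i => b.repr c i • a, ?_⟩
    conv_lhs => rw [← b.sum_repr c, TensorProduct.tmul_sum]
    exact Finset.sum_congr rfl fun i _ => (TensorProduct.smul_tmul _ _ _).symm
  | add a c ha hc =>
    obtain ⟨v, rfl⟩ := ha
    obtain ⟨v', rfl⟩ := hc
    exact ⟨v + v', by simp [TensorProduct.add_tmul, Finset.sum_add_distrib]⟩

include hU hcov in
/-- Every class is realised. -/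
theorem exists_extn (E₀ : Extn p ξ) (ω : H1T k X ⊗[k] ↥(RingHom.ker p.toAlgHom)) :
    ∃ E : Extn p ξ, IsTorClass hU hcov hp E₀ E ω := by
  classical
  obtain ⟨h, rfl⟩ := exists_coeff (R := k) (V := H1T k X) (J := ↥(RingHom.ker p.toAlgHom)) (kerBasis p) ω
  choose c hc using fun i => clsT_surjective (k := k) hU hcov 1 (h i)
  let b := killed_ker hp (kerBasis p)
  let g : ∀ i j, Fam (𝟙 C') E₀.η E₀.η (Af (U i ⊓ U j)) := fun i j =>
    (Fam.id E₀.η _).add b (fun _ hW => hW.1) (P := CechTop.cap U ![i, j])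
      (fun W hW => hW.2.trans (le_cap_two (a := ![i, j]) inf_le_left inf_le_right)) (fun l => (c l).1 ![i, j])
  have hcoc : ∀ i j l W (hij : Af (U i ⊓ U j) W) (hjl : Af (U j ⊓ U l) W) (hil : Af (U i ⊓ U l) W)
      (r : S E₀.η W), (g i l).app W hil r = (g i j).app W hij ((g j l).app W hjl r) := by
    intro i j l W hij hjl hil r
    let a : Fin 3 → ι := ![i, j, l]
    have hi : W ≤ U i := hij.2.trans inf_le_left
    have hj : W ≤ U j := hij.2.trans inf_le_right
    have hl : W ≤ U l := hil.2.trans inf_le_right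
    have hW : W ≤ CechTop.cap U a := le_cap_three hi hj hl
    have hgg : (g i j).app W hij ((g j l).app W hjl r) = r +
        emb E₀.η b hij.1 (fun m => tv ((c m).1 ![j, l]) W (le_cap_two hj hl) (red E₀.η W r)) +
        emb E₀.η b hij.1 (fun m => tv ((c m).1 ![i, j]) W (le_cap_two hi hj) (red E₀.η W r)) := by
      rw [show (g i j).app W hij ((g j l).app W hjl r) = (g j l).app W hjl r + emb E₀.η b hij.1
        (fun m => tv ((c m).1 ![i, j]) W (le_cap_two hi hj) (red E₀.η W ((g j l).app W hjl r))) from rfl,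
        Fam.red_app]
      rfl
    have hsum : (fun m => tv ((c m).1 ![i, l]) W (le_cap_two hi hl) (red E₀.η W r)) =
        (fun m => tv ((c m).1 ![j, l]) W (le_cap_two hj hl) (red E₀.η W r)) +
          fun m => tv ((c m).1 ![i, j]) W (le_cap_two hi hj) (red E₀.η W r) := funext fun m => by
      have hm : dK k U (Tsh k X) 1 (c m).1 = 0 := (c m).2
      have h0 : tv (dK k U (Tsh k X) 1 (c m).1 a) W hW (red E₀.η W r) = 0 := by
        rw [hm]; exact tv_zero W hW _
      rw [dK_apply, Fin.sum_univ_three] at h0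
      simp only [Fin.val_zero, pow_zero, one_smul, Fin.val_one, pow_one, neg_smul, Fin.val_two, neg_one_sq] at h0
      rw [tv_add, tv_add, tv_neg, tv_resL, tv_resL, tv_resL] at h0
      have eq' : ∀ (d d' : Fin 2 → ι) (_ : d = d') (q : W ≤ CechTop.cap U d) (q' : W ≤ CechTop.cap U d')
          (z : Γ(X, W)), tv ((c m).1 d) W q z = tv ((c m).1 d') W q' z := by rintro d _ rfl q q' z; rfl
      rw [eq' (a ∘ (0 : Fin 3).succAbove) ![j, l] (funext fun q => by fin_cases q <;> rfl) _ (le_cap_two hj hl),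
        eq' (a ∘ (1 : Fin 3).succAbove) ![i, l] (funext fun q => by fin_cases q <;> rfl) _ (le_cap_two hi hl),
        eq' (a ∘ (2 : Fin 3).succAbove) ![i, j] (funext fun q => by fin_cases q <;> rfl) _ (le_cap_two hi hj)] at h0
      rw [Pi.add_apply]
      linear_combination -h0
    rw [hgg]
    show r + emb E₀.η b _ (fun m => tv ((c m).1 ![i, l]) W _ (red E₀.η W r)) = _
    rw [hsum, map_add]
    ring
  obtain ⟨η, ψ, hψ⟩ := exists_glued E₀.η g hcoc hU hcov
  obtain ⟨μ, hμ⟩ := exists_mor_of_local hU hcov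
    (fun j => (ψ j).comp' (Fam.ofMor E₀.μ (Af (U j))) fun _ => rfl) fun i j W hi hj r => by
    show E₀.μ.app W _ = E₀.μ.app W _
    rw [hψ i j W hi hj ⟨hi.1, le_inf hi.2 hj.2⟩]
    show E₀.μ.app W (_ + _) = _
    rw [map_add, mor_app_emb hp, add_zero]
    rfl
  refine ⟨⟨η, μ⟩, fun l => (c l).1, fun l => (c l).2, ⟨ψ, fun j W hW r => (hμ j W hW r).symm,
    fun a W h₀ h₁ hW r => ?_⟩, ?_⟩
  · have eq' : ∀ (l) (d d' : Fin 2 → ι) (_ : d = d') (q : W ≤ CechTop.cap U d) (q' : W ≤ CechTop.cap U d')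
        (z : Γ(X, W)), tv ((c l).1 d) W q z = tv ((c l).1 d') W q' z := by rintro l d _ rfl q q' z; rfl
    rw [hψ (a 0) (a 1) W h₀ h₁ ⟨h₀.1, le_inf h₀.2 h₁.2⟩]
    show (ψ (a 1)).app W h₁ r + emb E₀.η b _ _ = _
    congr 2
    funext l
    rw [Fam.red_app, eq' l ![a 0, a 1] a (funext fun q => by fin_cases q <;> rfl) _ hW]
  · simp only [Subtype.coe_eta, hc]

include hU hcov hp in
/-- The extensions form a set in bijection with `H¹(T) ⊗ J` as soon as there is one. -/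
theorem nonempty_equiv (E₀ : Extn p ξ) :
    Nonempty (Quot (Extn.Equiv (p := p) (ξ := ξ)) ≃ (H1T k X ⊗[k] ↥(RingHom.ker p.toAlgHom))) := by
  choose ω hω using exists_isTorClass hU hcov hp E₀
  let f : Quot (Extn.Equiv (p := p) (ξ := ξ)) → H1T k X ⊗[k] ↥(RingHom.ker p.toAlgHom) :=
    Quot.lift ω fun E E' he => (hω E).eq hU hcov hp ((hω E').of_equiv hU hcov hp he)
  refine ⟨Equiv.ofBijective f ⟨?_, fun z => ?_⟩⟩
  · rintro ⟨E⟩ ⟨E'⟩ (h : ω E = ω E')
    exact Quot.sound ((hω E).equiv hU hcov hp (h ▸ hω E'))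
  · obtain ⟨E, hE⟩ := exists_extn hU hcov hp E₀ z
    exact ⟨Quot.mk _ E, (hω E).eq hU hcov hp hE⟩

end Groth.Agent.H24SmDef
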