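import Groth.Agent.H24SmDef.Extensions

/-!
# Extensions given by isomorphisms with base changes
-/

set_option autoImplicit false
set_option linter.style.haveILetI false

universe u

open CategoryTheory CategoryTheory.Limits AlgebraicGeometry IsLocalRing ArtFun ArtFun.Art Opposite
open TopologicalSpace

noncomputable section

namespace Groth.Agent.H24SmDef

open Groth.Agent.H24DefTan

variable {k : Type u} [Field k] {X : Scheme.{u}} [X.Over (Spec (CommRingCat.of k))]
variable {C' C : Art k k} {p : C' ⟶ C} {ξ : DefSch X (str k X) C}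

/-- Extensions as deformations with an identification of the base change. -/
abbrev IsoExtn (p : C' ⟶ C) (ξ : DefSch X (str k X) C) : Type (u + 1) :=
  Σ η : DefSch X (str k X) C', (η.baseChange p).Iso ξ

/-- The equivalence of `IsoExtn`s. -/
abbrev IsoExtn.Rel (a b : IsoExtn p ξ) : Prop :=
  ∃ ψ : a.1.Iso b.1, ((ψ.baseChange p).trans b.2).iso = a.2.iso

/-- The extension. -/
def toExtn (a : IsoExtn p ξ) : Extn p ξ := ⟨a.1, Mor.ofIso a.2⟩

theorem equiv_toExtn_iff (a b : IsoExtn p ξ) : (toExtn a).Equiv (toExtn b) ↔ IsoExtn.Rel a b := by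
  constructor
  · rintro ⟨θ, hθ⟩
    let ψ : a.1.Iso b.1 := DefSch.Iso.symm (Mor.toIso θ)
    refine ⟨ψ, CategoryTheory.Iso.ext_inv (pullback.hom_ext ?_ ?_)⟩
    · show (b.2.iso.inv ≫ DefSch.pullMap ψ.iso.inv ψ.symm.hom_f p) ≫ pullback.fst _ _ = _
      rw [Category.assoc, pullback.lift_fst, ← Category.assoc]
      exact hθ
    · exact (((ψ.baseChange p).trans b.2).symm.hom_f).trans a.2.symm.hom_f.symm
  · rintro ⟨ψ, hψ⟩
    refine ⟨morOfIso ψ, ?_⟩
    show (b.2.iso.inv ≫ pullback.fst _ _) ≫ ψ.iso.inv = a.2.iso.inv ≫ pullback.fst _ _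
    rw [← hψ]
    show _ = (b.2.iso.inv ≫ DefSch.pullMap ψ.iso.inv ψ.symm.hom_f p) ≫ pullback.fst _ _
    rw [Category.assoc, Category.assoc, pullback.lift_fst]

/-- The two notions of extension agree. -/
theorem nonempty_quot_equiv :
    Nonempty (Quot (IsoExtn.Rel (p := p) (ξ := ξ)) ≃ Quot (Extn.Equiv (p := p) (ξ := ξ))) := by
  have hrefl : ∀ a : IsoExtn p ξ, (toExtn a).Equiv (toExtn a) := fun a =>
    (equiv_toExtn_iff a a).2 ⟨DefSch.Iso.refl _, CategoryTheory.Iso.ext_inv (pullback.hom_ext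
      (by
        show (a.2.iso.inv ≫ DefSch.pullMap (𝟙 a.1.total) (Category.id_comp _) p) ≫ pullback.fst _ _ = _
        rw [Category.assoc, pullback.lift_fst, ← Category.assoc]
        exact Category.comp_id _)
      ((((DefSch.Iso.refl a.1).baseChange p).trans a.2).symm.hom_f.trans a.2.symm.hom_f.symm))⟩
  let fr : Extn p ξ → IsoExtn p ξ := fun E => ⟨E.η, Mor.baseChangeIso E.μ⟩
  have hfr : ∀ E, toExtn (fr E) = E := fun E => by
    rcases E with ⟨η, μ⟩
    have h : (Mor.ofIso (Mor.baseChangeIso μ)).hom = μ.hom := Mor.baseChangeIso_inv_fst μ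
    show (⟨η, Mor.ofIso (Mor.baseChangeIso μ)⟩ : Extn p ξ) = ⟨η, μ⟩
    congr 1
    rcases μ with ⟨r, hr, hri⟩
    revert h
    generalize Mor.ofIso (Mor.baseChangeIso (⟨r, hr, hri⟩ : Mor p η ξ)) = m'
    rcases m' with ⟨r', hr', hri'⟩
    intro h
    obtain rfl : r' = r := h
    rfl
  refine ⟨{ toFun := Quot.map toExtn fun a b h => (equiv_toExtn_iff a b).2 h
            invFun := Quot.map fr fun E E' h => (equiv_toExtn_iff _ _).1 (by rwa [hfr, hfr])
            left_inv := ?_
            right_inv := ?_ }⟩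
  · rintro ⟨a⟩
    refine Quot.sound ((equiv_toExtn_iff _ _).1 ?_)
    rw [hfr]
    exact hrefl a
  · rintro ⟨E⟩
    exact congrArg (Quot.mk _) (hfr E)

end Groth.Agent.H24SmDef
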