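import Groth.Agent.H24DefTan.Sect

/-!
# Compatible families of maps of rings of sections of deformations
-/

set_option autoImplicit false
set_option linter.style.haveILetI false

universe u

open CategoryTheory CategoryTheory.Limits AlgebraicGeometry IsLocalRing ArtFun ArtFun.Art Opposite
open TopologicalSpace

noncomputable section

namespace Groth.Agent.H24SmDef

open Groth.Agent.H24DefTan

variable {k : Type u} [Field k] {X : Scheme.{u}} {x : X ⟶ specPt k} {A B C D : Art k k}

/-- The affine opens inside `V`. -/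
abbrev Af (V : X.Opens) (W : X.Opens) : Prop := IsAffineOpen W ∧ W ≤ V

/-- A natural family of maps from the rings of sections of `η` to those of `ξ`, over `g`. -/
structure Fam (g : A ⟶ B) (η : DefSch X x A) (ξ : DefSch X x B) (Bp : X.Opens → Prop) : Type u where
  /-- the map over an open -/
  app : ∀ W, Bp W → S η W →+* S ξ W
  app_rs : ∀ (W W' : X.Opens) (hW : Bp W) (hW' : Bp W') (h : W' ≤ W) (r : S η W),
    app W' hW' (rs η h r) = rs ξ h (app W hW r)
  app_sc : ∀ (W : X.Opens) (hW : Bp W) (a : A), app W hW (sc η W a) = sc ξ W (g a)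
  red_app : ∀ (W : X.Opens) (hW : Bp W) (r : S η W), red ξ W (app W hW r) = red η W r

namespace Fam

variable {g : A ⟶ B} {η : DefSch X x A} {ξ : DefSch X x B} {Bp Bp' : X.Opens → Prop}

theorem ext {φ ψ : Fam g η ξ Bp} (h : ∀ W hW r, φ.app W hW r = ψ.app W hW r) : φ = ψ := by
  have he : φ.app = ψ.app := funext fun W => funext fun hW => RingHom.ext (h W hW)
  cases φ; cases ψ; cases he; rfl

/-- A morphism of deformations gives a family on every collection of opens. -/
def ofMor (m : Mor g η ξ) (Bp : X.Opens → Prop) : Fam g η ξ Bp where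
  app W _ := m.app W
  app_rs _ _ _ _ h r := m.app_rs h r
  app_sc W _ a := m.app_sc W a
  red_app W _ r := m.red_app W r

/-- Restriction to fewer opens. -/
def mono (φ : Fam g η ξ Bp) (h : ∀ W, Bp' W → Bp W) : Fam g η ξ Bp' where
  app W hW := φ.app W (h W hW)
  app_rs W W' hW hW' := φ.app_rs W W' (h W hW) (h W' hW')
  app_sc W hW := φ.app_sc W (h W hW)
  red_app W hW := φ.red_app W (h W hW)

@[simp] theorem mono_app (φ : Fam g η ξ Bp) (h : ∀ W, Bp' W → Bp W) (W : X.Opens) (hW : Bp' W) :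
    (φ.mono h).app W hW = φ.app W (h W hW) := rfl

theorem mono_mono {Bp'' : X.Opens → Prop} (φ : Fam g η ξ Bp) (h : ∀ W, Bp' W → Bp W)
    (h' : ∀ W, Bp'' W → Bp' W) : (φ.mono h).mono h' = φ.mono (fun W hW => h W (h' W hW)) := rfl

/-- The identity. -/
def id (η : DefSch X x A) (Bp : X.Opens → Prop) : Fam (𝟙 A) η η Bp where
  app W _ := RingHom.id _
  app_rs _ _ _ _ _ _ := rfl
  app_sc _ _ _ := rfl
  red_app _ _ _ := rfl

@[simp] theorem id_app (W : X.Opens) (hW : Bp W) (r : S η W) : (id η Bp).app W hW r = r := rfl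

/-- Composition, with the composite map of the bases given. -/
def comp' {h : B ⟶ C} {gh : A ⟶ C} {ζ : DefSch X x C} (φ : Fam g η ξ Bp) (ψ : Fam h ξ ζ Bp)
    (e : ∀ a, h (g a) = gh a) : Fam gh η ζ Bp where
  app W hW := (ψ.app W hW).comp (φ.app W hW)
  app_rs W W' hW hW' e' r := by
    rw [RingHom.comp_apply, φ.app_rs W W' hW hW', ψ.app_rs W W' hW hW']; rfl
  app_sc W hW a := by rw [RingHom.comp_apply, φ.app_sc, ψ.app_sc, e]
  red_app W hW r := by rw [RingHom.comp_apply, ψ.red_app, φ.red_app]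

@[simp] theorem comp'_app {h : B ⟶ C} {gh : A ⟶ C} {ζ : DefSch X x C} (φ : Fam g η ξ Bp) (ψ : Fam h ξ ζ Bp)
    (e : ∀ a, h (g a) = gh a) (W : X.Opens) (hW : Bp W) (r : S η W) :
    (φ.comp' ψ e).app W hW r = ψ.app W hW (φ.app W hW r) := rfl

/-- Composition of families over the identity. -/
def comp {ζ : DefSch X x A} {η' : DefSch X x A} (φ : Fam (𝟙 A) η η' Bp) (ψ : Fam (𝟙 A) η' ζ Bp) :
    Fam (𝟙 A) η ζ Bp :=
  φ.comp' ψ fun _ => rfl

@[simp] theorem comp_app {ζ : DefSch X x A} {η' : DefSch X x A} (φ : Fam (𝟙 A) η η' Bp) (ψ : Fam (𝟙 A) η' ζ Bp)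
    (W : X.Opens) (hW : Bp W) (r : S η W) : (φ.comp ψ).app W hW r = ψ.app W hW (φ.app W hW r) := rfl

/-- A family over a surjection is surjective and its kernel comes from the kernel of the base. -/
theorem surjective_and_ker (φ : Fam g η ξ Bp) (hg : Function.Surjective g) {W : X.Opens} (hW : Bp W)
    (hA : IsAffineOpen W) :
    Function.Surjective (φ.app W hW) ∧
      ∀ r, φ.app W hW r = 0 ↔ r ∈ (RingHom.ker g.toAlgHom).map (sc η W) := by
  let J := (RingHom.ker g.toAlgHom).map (sc η W)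
  let P := S η W ⧸ J
  have hJ : ∀ r ∈ J, φ.app W hW r = 0 := fun r hr => by
    have h1 : J ≤ RingHom.ker (φ.app W hW) := Ideal.map_le_iff_le_comap.2 fun a ha => by
      rw [Ideal.mem_comap, RingHom.mem_ker, φ.app_sc]
      rw [RingHom.mem_ker] at ha
      show sc ξ W (g.toAlgHom a) = 0
      rw [ha, map_zero]
    exact h1 hr
  let h : P →+* S ξ W := Ideal.Quotient.lift J (φ.app W hW) hJ
  let σ : B →+* P := RingHom.liftOfSurjective g.toAlgHom.toRingHom hg
    ⟨(Ideal.Quotient.mk J).comp (sc η W), fun a ha => by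
      rw [RingHom.mem_ker] at ha
      rw [RingHom.mem_ker, RingHom.comp_apply]
      exact Ideal.Quotient.eq_zero_iff_mem.2 (Ideal.mem_map_of_mem _ ha)⟩
  have hσ : ∀ a, σ (g a) = Ideal.Quotient.mk J (sc η W a) := fun a =>
    RingHom.liftOfRightInverse_comp_apply _ _ _ _ a
  letI : Algebra B P := σ.toAlgebra
  letI : Algebra B (S ξ W) := (sc ξ W).toAlgebra
  haveI : Module.Flat B (S ξ W) := H24Def.flat_scalar ξ.f (isAffineOpen_up ξ hA)
  let hl : P →ₗ[B] S ξ W :=
    { toFun := h
      map_add' := map_add h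
      map_smul' := fun c r => by
        obtain ⟨a, rfl⟩ := hg c
        rw [RingHom.id_apply, Algebra.smul_def, Algebra.smul_def, map_mul]
        congr 1
        show h (σ (g a)) = sc ξ W (g a)
        rw [hσ]
        exact (Ideal.Quotient.lift_mk _ _ _).trans (φ.app_sc W hW a) }
  have hb : Function.Bijective hl := H28Def.bijective_of_mod_nilpotent hl (fun q => by
      obtain ⟨r, hr⟩ := red_surjective η hA (red ξ W q)
      refine ⟨Ideal.Quotient.mk J r, ?_⟩
      rw [Ideal.smul_top_eq_map, Submodule.restrictScalars_mem]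
      show q - h (Ideal.Quotient.mk J r) ∈ (maximalIdeal B).map (sc ξ W)
      rw [Ideal.Quotient.lift_mk, ← red_eq_zero_iff ξ hA, map_sub, φ.red_app, hr, sub_self])
    fun p => by
      obtain ⟨r, rfl⟩ := Ideal.Quotient.mk_surjective p
      intro hr
      change h (Ideal.Quotient.mk J r) = 0 at hr
      rw [Ideal.Quotient.lift_mk] at hr
      have h0 : red η W r = 0 := by rw [← φ.red_app W hW, hr, map_zero]
      rw [red_eq_zero_iff η hA] at h0
      rw [Ideal.smul_top_eq_map, Submodule.restrictScalars_mem]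
      show Ideal.Quotient.mk J r ∈ (maximalIdeal B).map σ
      have h1 := Ideal.mem_map_of_mem (Ideal.Quotient.mk J) h0
      rw [Ideal.map_map] at h1
      refine Ideal.map_le_iff_le_comap.2 (fun a ha => ?_) h1
      rw [Ideal.mem_comap, RingHom.comp_apply, ← hσ]
      refine Ideal.mem_map_of_mem σ ?_
      rw [mem_maximalIdeal_iff] at ha ⊢
      rwa [res_app]
  refine ⟨fun q => ?_, fun r => ⟨fun hr => ?_, hJ r⟩⟩
  · obtain ⟨p, hp⟩ := hb.2 q
    obtain ⟨r, rfl⟩ := Ideal.Quotient.mk_surjective p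
    exact ⟨r, (Ideal.Quotient.lift_mk J (φ.app W hW) hJ).symm.trans hp⟩
  · refine Ideal.Quotient.eq_zero_iff_mem.1 (hb.1 ?_)
    show h (Ideal.Quotient.mk J r) = h 0
    rw [map_zero, Ideal.Quotient.lift_mk, hr]

theorem bijective_app {ξ : DefSch X x A} (φ : Fam (𝟙 A) η ξ Bp) {W : X.Opens} (hW : Bp W)
    (hA : IsAffineOpen W) : Function.Bijective (φ.app W hW) := by
  obtain ⟨h1, h2⟩ := φ.surjective_and_ker (fun a => ⟨a, rfl⟩) hW hA
  refine ⟨(injective_iff_map_eq_zero _).2 fun r hr => ?_, h1⟩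
  have h3 := (h2 r).1 hr
  have h4 : RingHom.ker (𝟙 A : A ⟶ A).toAlgHom = ⊥ := by
    ext a
    rw [RingHom.mem_ker, Ideal.mem_bot]
    exact Iff.rfl
  rwa [h4, Ideal.map_bot, Ideal.mem_bot] at h3

section Symm

variable {ξ : DefSch X x A} (φ : Fam (𝟙 A) η ξ Bp) (hB : ∀ W, Bp W → IsAffineOpen W)

/-- The inverse family. -/
def symm : Fam (𝟙 A) ξ η Bp where
  app W hW := (RingEquiv.ofBijective (φ.app W hW) (φ.bijective_app hW (hB W hW))).symm.toRingHom
  app_rs W W' hW hW' e r := by
    refine (φ.bijective_app hW' (hB W' hW')).1 ?_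
    rw [φ.app_rs W W' hW hW' e]
    refine (RingEquiv.apply_symm_apply (RingEquiv.ofBijective _ (φ.bijective_app hW' (hB W' hW'))) _).trans ?_
    exact congrArg (rs ξ e)
      (RingEquiv.apply_symm_apply (RingEquiv.ofBijective _ (φ.bijective_app hW (hB W hW))) r).symm
  app_sc W hW a := by
    refine (φ.bijective_app hW (hB W hW)).1 ?_
    refine (RingEquiv.apply_symm_apply (RingEquiv.ofBijective _ (φ.bijective_app hW (hB W hW))) _).trans ?_
    exact (φ.app_sc W hW _).symm
  red_app W hW r :=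
    (φ.red_app W hW _).symm.trans (congrArg (red ξ W)
      (RingEquiv.apply_symm_apply (RingEquiv.ofBijective _ (φ.bijective_app hW (hB W hW))) r))

@[simp] theorem app_symm_app (W : X.Opens) (hW : Bp W) (r : S ξ W) :
    φ.app W hW ((φ.symm hB).app W hW r) = r :=
  RingEquiv.apply_symm_apply (RingEquiv.ofBijective (φ.app W hW) (φ.bijective_app hW (hB W hW))) r

@[simp] theorem symm_app_app (W : X.Opens) (hW : Bp W) (r : S η W) :
    (φ.symm hB).app W hW (φ.app W hW r) = r :=
  RingEquiv.symm_apply_apply (RingEquiv.ofBijective (φ.app W hW) (φ.bijective_app hW (hB W hW))) r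

end Symm

end Fam

end Groth.Agent.H24SmDef
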