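import Groth.Agent.H24SmDef.Lift

/-!
# Morphisms of deformations from families
-/

set_option autoImplicit false
set_option linter.style.haveILetI false

universe u

open CategoryTheory CategoryTheory.Limits AlgebraicGeometry IsLocalRing ArtFun ArtFun.Art Opposite
open TopologicalSpace

noncomputable section

namespace Groth.Agent.H24SmDef

open Groth.Agent.H24DefTan

variable {k : Type u} [Field k] {X : Scheme.{u}} {x : X ⟶ specPt k} {A B : Art k k}

/-- Morphisms from affine opens given by ring maps agree on smaller affine opens. -/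
theorem restrict_isoSpec {T T' : Scheme.{u}} {O O' : T.Opens} (hO : IsAffineOpen O) (hO' : IsAffineOpen O')
    (e : O' ≤ O) {P P' : T'.Opens} (hP : IsAffineOpen P) (hP' : IsAffineOpen P') (e' : P' ≤ P)
    (ρ : Γ(T', P) →+* Γ(T, O)) (ρ' : Γ(T', P') →+* Γ(T, O')) (h : ∀ r, ρ' (r0 e' r) = r0 e (ρ r)) :
    T.homOfLE e ≫ hO.isoSpec.hom ≫ Spec.map (CommRingCat.ofHom ρ) ≫ hP.fromSpec =
      hO'.isoSpec.hom ≫ Spec.map (CommRingCat.ofHom ρ') ≫ hP'.fromSpec := by
  have h1 : hO'.isoSpec.inv ≫ T.homOfLE e ≫ hO.isoSpec.hom = Spec.map (CommRingCat.ofHom (r0 e)) := by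
    rw [← cancel_mono hO.fromSpec, Category.assoc, Category.assoc]
    show hO'.isoSpec.inv ≫ T.homOfLE e ≫ hO.isoSpec.hom ≫ hO.isoSpec.inv ≫ O.ι = _
    rw [Iso.hom_inv_id_assoc, Scheme.homOfLE_ι]
    exact (hO.map_fromSpec hO' (homOfLE e).op).symm
  rw [← cancel_epi hO'.isoSpec.inv, reassoc_of% h1, Iso.inv_hom_id_assoc]
  rw [← hP.map_fromSpec hP' (homOfLE e').op, ← Spec.map_comp_assoc, ← Spec.map_comp_assoc]
  congr 2
  ext r
  exact (h r).symm

theorem up_cover (ξ : DefSch X x A) {κ : Type u} {U : κ → X.Opens} (hcov : iSup U = ⊤) :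
    IsOpenCover fun j => up ξ (U j) := by
  refine top_unique fun p _ => ?_
  obtain ⟨q, rfl⟩ := (H28Def.isClosedImmersion_i ξ).2 p
  obtain ⟨j, hj⟩ := Opens.mem_iSup.1 (hcov.ge (Opens.mem_top q))
  exact Opens.mem_iSup.2 ⟨j, ⟨q, hj, rfl⟩⟩

theorem up_inf (ξ : DefSch X x A) (P Q : X.Opens) : up ξ P ⊓ up ξ Q ≤ up ξ (P ⊓ Q) := fun p hp => by
  obtain ⟨⟨a, ha, rfl⟩, ⟨b, hb, hab⟩⟩ := hp
  obtain rfl := (isHomeomorph_i ξ).injective hab
  exact ⟨b, ⟨ha, hb⟩, rfl⟩

variable {g : A ⟶ B} {η : DefSch X x A} {ξ : DefSch X x B} {Bp : X.Opens → Prop}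

/-- A family on a basis of affine opens comes from a morphism of deformations. -/
theorem exists_mor (φ : Fam g η ξ Bp) (haff : ∀ W, Bp W → IsAffineOpen W)
    (hinf : ∀ W W', Bp W → Bp W' → Bp (W ⊓ W')) (hcov : (⨆ W : {W // Bp W}, W.1) = ⊤) :
    ∃ m : Mor g η ξ, ∀ W hW r, m.app W r = φ.app W hW r := by
  let κ : Type u := {W // Bp W}
  have hO : ∀ j : κ, IsAffineOpen (up ξ j.1) := fun j => isAffineOpen_up ξ (haff _ j.2)
  have hP : ∀ j : κ, IsAffineOpen (up η j.1) := fun j => isAffineOpen_up η (haff _ j.2)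
  let 𝒰 := ξ.total.openCoverOfIsOpenCover (fun j : κ => up ξ j.1) (up_cover ξ hcov)
  let G : ∀ j : κ, (up ξ j.1 : Scheme.{u}) ⟶ η.total := fun j =>
    (hO j).isoSpec.hom ≫ Spec.map (CommRingCat.ofHom (φ.app j.1 j.2)) ≫ (hP j).fromSpec
  have hG : ∀ j l : κ, ξ.total.homOfLE inf_le_left ≫ G j =
      ξ.total.homOfLE (inf_le_right : up ξ j.1 ⊓ up ξ l.1 ≤ up ξ l.1) ≫ G l := by
    intro j l
    let n : κ := ⟨j.1 ⊓ l.1, hinf _ _ j.2 l.2⟩
    have hl := restrict_isoSpec (hO j) (hO n) (up_mono ξ inf_le_left) (hP j) (hP n) (up_mono η inf_le_left)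
      (φ.app j.1 j.2) (φ.app n.1 n.2) fun r => φ.app_rs j.1 n.1 j.2 n.2 inf_le_left r
    have hr := restrict_isoSpec (hO l) (hO n) (up_mono ξ inf_le_right) (hP l) (hP n) (up_mono η inf_le_right)
      (φ.app l.1 l.2) (φ.app n.1 n.2) fun r => φ.app_rs l.1 n.1 l.2 n.2 inf_le_right r
    have := congrArg (ξ.total.homOfLE (up_inf ξ j.1 l.1) ≫ ·) (hl.trans hr.symm)
    simp only [Scheme.homOfLE_homOfLE_assoc] at this
    exact this
  let r : ξ.total ⟶ η.total := 𝒰.glueMorphisms G (fun j l => by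
    refine (cancel_epi (isPullback_opens_inf (up ξ j.1) (up ξ l.1)).isoPullback.hom).mp ?_
    show (isPullback_opens_inf _ _).isoPullback.hom ≫ pullback.fst _ _ ≫ G j =
      (isPullback_opens_inf _ _).isoPullback.hom ≫ pullback.snd _ _ ≫ G l
    rw [(isPullback_opens_inf (up ξ j.1) (up ξ l.1)).isoPullback_hom_fst_assoc,
      (isPullback_opens_inf (up ξ j.1) (up ξ l.1)).isoPullback_hom_snd_assoc]
    exact hG j l)
  have hr : ∀ j : κ, (hO j).fromSpec ≫ r =
      Spec.map (CommRingCat.ofHom (φ.app j.1 j.2)) ≫ (hP j).fromSpec := fun j => by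
    have h1 : (up ξ j.1).ι ≫ r = G j := 𝒰.ι_glueMorphisms G _ j
    rw [show (hO j).fromSpec = (hO j).isoSpec.inv ≫ (up ξ j.1).ι from rfl, Category.assoc, h1,
      Iso.inv_hom_id_assoc]
  have hf : r ≫ η.f = ξ.f ≫ specMap g := by
    refine Scheme.Cover.hom_ext 𝒰 _ _ fun j => ?_
    show (up ξ j.1).ι ≫ r ≫ η.f = (up ξ j.1).ι ≫ ξ.f ≫ specMap g
    rw [← cancel_epi (hO j).isoSpec.inv]
    show (hO j).fromSpec ≫ r ≫ η.f = (hO j).fromSpec ≫ ξ.f ≫ specMap g
    rw [reassoc_of% (hr j), H28Def.fromSpec_comp η.f (hP j), ← Category.assoc,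
      H28Def.fromSpec_comp ξ.f (hO j), ← Spec.map_comp, ← Spec.map_comp]
    congr 1
    ext a
    exact φ.app_sc j.1 j.2 a
  have hi : ξ.i ≫ r = η.i := by
    refine Scheme.Cover.hom_ext (X.openCoverOfIsOpenCover (fun j : κ => j.1) (hcov : IsOpenCover _)) _ _
      fun j => ?_
    show j.1.ι ≫ ξ.i ≫ r = j.1.ι ≫ η.i
    rw [← cancel_epi (haff _ j.2).isoSpec.inv]
    show (haff _ j.2).fromSpec ≫ ξ.i ≫ r = (haff _ j.2).fromSpec ≫ η.i
    rw [← Category.assoc, ← IsAffineOpen.SpecMap_appLE_fromSpec ξ.i (hO j) (haff _ j.2) (preimage_up ξ j.1).ge,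
      Category.assoc, hr, ← IsAffineOpen.SpecMap_appLE_fromSpec η.i (hP j) (haff _ j.2) (preimage_up η j.1).ge,
      ← Spec.map_comp_assoc]
    congr 2
    ext s
    exact φ.red_app j.1 j.2 s
  refine ⟨⟨r, hf, hi⟩, fun W hW s => ?_⟩
  let j : κ := ⟨W, hW⟩
  let m : Mor g η ξ := ⟨r, hf, hi⟩
  have h1 := IsAffineOpen.SpecMap_appLE_fromSpec r (hP j) (hO j) (m.up_le W)
  rw [hr j, cancel_mono] at h1
  exact congr($(Spec.map_injective h1) s)

/-- Isomorphism from a morphism over the identity. -/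
def Mor.toIso {ξ η : DefSch X x A} (m : Mor (𝟙 A) η ξ) : ξ.Iso η :=
  haveI := H28Def.isIso_of_def_hom (η := ξ) (η' := η) m.hom (by rw [m.hom_f, specMap_id, Category.comp_id]) m.i_hom
  ⟨asIso m.hom, by rw [asIso_hom, m.hom_f, specMap_id, Category.comp_id], m.i_hom⟩

/-- The comparison with the base change. -/
def Mor.lift {g : A ⟶ B} {η : DefSch X x A} {ξ : DefSch X x B} (m : Mor g η ξ) : ξ.total ⟶ (η.baseChange g).total :=
  pullback.lift m.hom ξ.f m.hom_f

/-- A morphism exhibits the source as the base change. -/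
def Mor.baseChangeIso {g : A ⟶ B} {η : DefSch X x A} {ξ : DefSch X x B} (m : Mor g η ξ) :
    (η.baseChange g).Iso ξ :=
  have hi : ξ.i ≫ Mor.lift m = (η.baseChange g).i := pullback.hom_ext
    ((Category.assoc _ _ _).trans ((congrArg (ξ.i ≫ ·) (pullback.lift_fst _ _ _)).trans
      (m.i_hom.trans (DefSch.baseChange_i_fst η g).symm)))
    ((Category.assoc _ _ _).trans ((congrArg (ξ.i ≫ ·) (pullback.lift_snd _ _ _)).trans
      (ξ.i_f.trans (DefSch.baseChange_i_f η g).symm)))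
  haveI := H28Def.isIso_of_def_hom (η := ξ) (η' := η.baseChange g) (Mor.lift m) (pullback.lift_snd _ _ _) hi
  DefSch.Iso.symm ⟨asIso (Mor.lift m), pullback.lift_snd _ _ _, hi⟩

theorem Mor.baseChangeIso_inv_fst {g : A ⟶ B} {η : DefSch X x A} {ξ : DefSch X x B} (m : Mor g η ξ) :
    (Mor.baseChangeIso m).iso.inv ≫ pullback.fst η.f (specMap g) = m.hom :=
  pullback.lift_fst _ _ _

end Groth.Agent.H24SmDef
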