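import Groth.Agent.H24SmDef.Global

/-!
# Deformations glued from a cocycle of automorphisms
-/

set_option autoImplicit false
set_option linter.style.haveILetI false

universe u

open CategoryTheory CategoryTheory.Limits AlgebraicGeometry IsLocalRing ArtFun ArtFun.Art Opposite
open TopologicalSpace

noncomputable section

namespace Groth.Agent.H24SmDef

open Groth.Agent.H24DefTan

variable {k : Type u} [Field k] {X : Scheme.{u}} {x : X ⟶ specPt k} {A : Art k k}
  (T : DefSch X x A) {κ : Type u} {U : κ → X.Opens}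

/-- The intersection of two families of affine opens. -/
theorem af_left {i j : κ} (W : X.Opens) (h : Af (U i ⊓ U j) W) : Af (U i) W := ⟨h.1, h.2.trans inf_le_left⟩

theorem af_right {i j : κ} (W : X.Opens) (h : Af (U i ⊓ U j) W) : Af (U j) W := ⟨h.1, h.2.trans inf_le_right⟩

/-- The affine opens subordinate to the cover. -/
abbrev Jc (U : κ → X.Opens) : Type u := {W : X.Opens // ∃ j, Af (U j) W}

/-- The chosen chart. -/
def chart (W : Jc U) : κ := W.2.choose

theorem chart_spec (W : Jc U) : Af (U (chart W)) W.1 := W.2.choose_spec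

theorem af_inf {a b : κ} {W : X.Opens} (hW : IsAffineOpen W) (ha : W ≤ U a) (hb : W ≤ U b) :
    Af (U a ⊓ U b) W := ⟨hW, le_inf ha hb⟩

variable (c : ∀ i j, Fam (𝟙 A) T T (Af (U i ⊓ U j)))
  (hc : ∀ i j l W (hij : Af (U i ⊓ U j) W) (hjl : Af (U j ⊓ U l) W) (hil : Af (U i ⊓ U l) W) (r : S T W),
    (c i l).app W hil r = (c i j).app W hij ((c j l).app W hjl r))

include hc in
theorem cocycle_self (i : κ) (W : X.Opens) (h : Af (U i ⊓ U i) W) (r : S T W) : (c i i).app W h r = r :=
  ((c i i).bijective_app h h.1).1 (hc i i i W h h h r).symm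

/-- The transition map on sections. -/
def tr {W' W : Jc U} (h : W'.1 ≤ W.1) : S T W.1 →+* S T W'.1 :=
  ((c (chart W') (chart W)).app W'.1
    (af_inf (chart_spec W').1 (chart_spec W').2 (h.trans (chart_spec W).2))).comp (rs T h)

include hc in
theorem tr_self (W : Jc U) : tr T c (le_refl W.1) = RingHom.id _ := RingHom.ext fun r => by
  show (c _ _).app W.1 _ (rs T le_rfl r) = r
  rw [rs_self, cocycle_self T c hc]

include hc in
theorem tr_tr {W'' W' W : Jc U} (h' : W''.1 ≤ W'.1) (h : W'.1 ≤ W.1) :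
    (tr T c h').comp (tr T c h) = tr T c (h'.trans h) := RingHom.ext fun r => by
  show (c _ _).app W''.1 _ (rs T h' ((c _ _).app W'.1 _ (rs T h r))) = (c _ _).app W''.1 _ (rs T (h'.trans h) r)
  rw [← (c (chart W') (chart W)).app_rs W'.1 W''.1
    (af_inf (chart_spec W').1 (chart_spec W').2 (h.trans (chart_spec W).2))
    (af_inf (chart_spec W'').1 (h'.trans (chart_spec W').2) ((h'.trans h).trans (chart_spec W).2)) h', rs_rs]
  exact (hc _ _ _ _ _ _ _ _).symm

/-- The diagram of charts. -/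
def diag : Jc U ⥤ Scheme.{u} where
  obj W := Spec (CommRingCat.of (S T W.1))
  map {W' W} f := Spec.map (CommRingCat.ofHom (tr T c (leOfHom f)))
  map_id W := by
    rw [show tr T c (leOfHom (𝟙 W)) = RingHom.id _ from tr_self T c hc W, CommRingCat.ofHom_id, Spec.map_id]
  map_comp {W'' W' W} f g := by
    rw [← Spec.map_comp, ← CommRingCat.ofHom_comp, tr_tr T c hc]

instance {W' W : Jc U} (f : W' ⟶ W) : IsOpenImmersion ((diag T c hc).map f) := by
  have h : W'.1 ≤ W.1 := leOfHom f
  have hb : IsIso (CommRingCat.ofHom ((c (chart W') (chart W)).app W'.1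
      (af_inf (chart_spec W').1 (chart_spec W').2 (h.trans (chart_spec W).2)))) :=
    (RingEquiv.ofBijective _ ((c (chart W') (chart W)).bijective_app _ (chart_spec W').1)).toCommRingCatIso.isIso_hom
  have him := isOpenImmersion_specMap_r0 (isAffineOpen_up T (chart_spec W).1) (isAffineOpen_up T (chart_spec W').1)
    (up_mono T h)
  show IsOpenImmersion (Spec.map (CommRingCat.ofHom (RingHom.comp _ (rs T h))))
  rw [CommRingCat.ofHom_comp, Spec.map_comp]
  haveI := hb
  haveI : IsOpenImmersion (Spec.map (CommRingCat.ofHom (rs T h))) := him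
  infer_instance

/-- The closed fibre of a chart. -/
def pt (W : Jc U) : (W.1 : Scheme.{u}) ⟶ Spec (CommRingCat.of (S T W.1)) :=
  (chart_spec W).1.isoSpec.hom ≫ Spec.map (CommRingCat.ofHom (red T W.1))

theorem pt_map {W' W : Jc U} (f : W' ⟶ W) :
    pt T W' ≫ (diag T c hc).map f = X.homOfLE (leOfHom f) ≫ pt T W := by
  have h : W'.1 ≤ W.1 := leOfHom f
  have h1 : X.homOfLE h ≫ (chart_spec W).1.isoSpec.hom =
      (chart_spec W').1.isoSpec.hom ≫ Spec.map (CommRingCat.ofHom (r0 h)) := by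
    rw [← cancel_mono (chart_spec W).1.fromSpec, Category.assoc, Category.assoc]
    show X.homOfLE h ≫ _ ≫ _ ≫ W.1.ι = _
    rw [Iso.hom_inv_id_assoc, Scheme.homOfLE_ι]
    refine Eq.trans ?_ (congrArg ((chart_spec W').1.isoSpec.hom ≫ ·)
      ((chart_spec W).1.map_fromSpec (chart_spec W').1 (homOfLE h).op).symm)
    show _ = _ ≫ _ ≫ W'.1.ι
    rw [Iso.hom_inv_id_assoc]
  show (_ ≫ _) ≫ Spec.map _ = X.homOfLE h ≫ _ ≫ _
  rw [Category.assoc, ← Category.assoc (X.homOfLE h), h1, Category.assoc, ← Spec.map_comp, ← Spec.map_comp]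
  congr 2
  ext r
  show red T W'.1 ((c _ _).app W'.1 _ (rs T h r)) = r0 h (red T W.1 r)
  rw [(c _ _).red_app, red_rs]

theorem pt_fromSpec (W : Jc U) :
    pt T W ≫ (isAffineOpen_up T (chart_spec W).1).fromSpec = W.1.ι ≫ T.i := by
  show (_ ≫ Spec.map _) ≫ _ = _
  rw [Category.assoc]
  refine (congrArg ((chart_spec W).1.isoSpec.hom ≫ ·) (IsAffineOpen.SpecMap_appLE_fromSpec T.i
    (isAffineOpen_up T (chart_spec W).1) (chart_spec W).1 (preimage_up T W.1).ge)).trans ?_
  show _ ≫ (_ ≫ W.1.ι) ≫ T.i = _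
  rw [Category.assoc, Iso.hom_inv_id_assoc]

theorem pt_injective (W : Jc U) : Function.Injective (pt T W) := fun a b h => by
  have e : ∀ z, (isAffineOpen_up T (chart_spec W).1).fromSpec (pt T W z) = T.i (W.1.ι z) := fun z =>
    congr($(pt_fromSpec T W) z)
  exact W.1.ι.isOpenEmbedding.injective ((isHomeomorph_i T).injective
    (((e a).symm.trans (congrArg _ h)).trans (e b)))

theorem pt_surjective (W : Jc U) : Function.Surjective (pt T W) := fun p => by
  have hW := isAffineOpen_up T (chart_spec W).1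
  have : hW.fromSpec p ∈ up T W.1 := by
    have := Set.mem_range_self (f := hW.fromSpec) p
    rwa [hW.range_fromSpec] at this
  obtain ⟨a, ha, hp⟩ := this
  refine ⟨⟨a, ha⟩, hW.fromSpec.isOpenEmbedding.injective ?_⟩
  exact (congr($(pt_fromSpec T W) ⟨a, ha⟩)).trans hp

instance : (diag T c hc ⋙ Scheme.forget).IsLocallyDirected where
  cond {i j l} fi fj xi xj h := by
    obtain ⟨a, rfl⟩ := pt_surjective T i xi
    obtain ⟨b, rfl⟩ := pt_surjective T j xj
    have h' : pt T l (X.homOfLE (leOfHom fi) a) = pt T l (X.homOfLE (leOfHom fj) b) :=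
      (congr($(pt_map T c hc fi) a)).symm.trans (h.trans (congr($(pt_map T c hc fj) b)))
    have hab : a.1 = b.1 := (congr($(X.homOfLE_ι (leOfHom fi)) a)).symm.trans
      ((congrArg (l.1.ι) (pt_injective T l h')).trans (congr($(X.homOfLE_ι (leOfHom fj)) b)))
    obtain ⟨W, hW, haW, hle⟩ := exists_isAffineOpen_mem_and_subset (X := X) (x := a.1) (U := i.1 ⊓ j.1)
      ⟨a.2, hab ▸ b.2⟩
    let n : Jc U := ⟨W, chart i, hW, fun z hz => (chart_spec i).2 (hle hz).1⟩
    have hi : n.1 ≤ i.1 := fun z hz => (hle hz).1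
    have hj : n.1 ≤ j.1 := fun z hz => (hle hz).2
    refine ⟨n, homOfLE hi, homOfLE hj, pt T n ⟨a.1, haW⟩, ?_, ?_⟩
    · refine (congr($(pt_map T c hc (homOfLE hi : n ⟶ i)) ⟨a.1, haW⟩)).trans ?_
      exact congrArg (pt T i) (Subtype.ext (congr($(X.homOfLE_ι hi) ⟨a.1, haW⟩)))
    · refine (congr($(pt_map T c hc (homOfLE hj : n ⟶ j)) ⟨a.1, haW⟩)).trans ?_
      exact congrArg (pt T j) (Subtype.ext ((congr($(X.homOfLE_ι hj) ⟨a.1, haW⟩)).trans hab))

theorem chart_of (W : X.Opens) {j : κ} (hW : Af (U j) W) : ∃ n : Jc U, n.1 = W := ⟨⟨W, j, hW⟩, rfl⟩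

variable [X.IsSeparated]

include hc in
/-- A cocycle of automorphisms of `T` on a cover glues to a deformation locally isomorphic to `T`. -/
theorem exists_glued (hU : ∀ j, IsAffineOpen (U j)) (hcov : iSup U = ⊤) :
    ∃ (η : DefSch X x A) (ψ : ∀ j, Fam (𝟙 A) η T (Af (U j))),
      ∀ i j W (hi : Af (U i) W) (hj : Af (U j) W) (hij : Af (U i ⊓ U j) W) (r : S η W),
        (ψ i).app W hi r = (c i j).app W hij ((ψ j).app W hj r) := by
  let F := diag T c hc
  let cc : Cocone F :=
    { pt := spec A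
      ι :=
        { app := fun W => Spec.map (CommRingCat.ofHom (sc T W.1))
          naturality := fun W' W f => by
            show Spec.map _ ≫ Spec.map _ = Spec.map _ ≫ 𝟙 _
            rw [Category.comp_id, ← Spec.map_comp, ← CommRingCat.ofHom_comp]
            congr 2
            ext a
            show (c _ _).app W'.1 _ (rs T (leOfHom f) (sc T W.1 a)) = sc T W'.1 a
            rw [rs_sc, (c _ _).app_sc]
            rfl } }
  let ιW : ∀ W : Jc U, Spec (CommRingCat.of (S T W.1)) ⟶ colimit F := fun W => colimit.ι F W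
  haveI hιW : ∀ W, IsOpenImmersion (ιW W) := fun W => (inferInstance : IsOpenImmersion (colimit.ι F W))
  have wι : ∀ {W' W : Jc U} (f : W' ⟶ W), F.map f ≫ ιW W = ιW W' := fun f => colimit.w F f
  let ff : colimit F ⟶ spec A := colimit.desc F cc
  have hff : ∀ W, ιW W ≫ ff = Spec.map (CommRingCat.ofHom (sc T W.1)) := fun W => colimit.ι_desc cc W
  have hJcov : IsOpenCover fun W : Jc U => W.1 := top_unique fun p _ => by
    obtain ⟨j, hj⟩ := Opens.mem_iSup.1 (hcov.ge (Opens.mem_top p))
    exact Opens.mem_iSup.2 ⟨⟨U j, j, hU j, le_rfl⟩, hj⟩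
  let 𝒳 := X.openCoverOfIsOpenCover (fun W : Jc U => W.1) hJcov
  have hG : ∀ W W' : Jc U, X.homOfLE inf_le_left ≫ pt T W ≫ ιW W =
      X.homOfLE (inf_le_right : W.1 ⊓ W'.1 ≤ W'.1) ≫ pt T W' ≫ ιW W' := by
    intro W W'
    let n : Jc U := ⟨W.1 ⊓ W'.1, chart W, (chart_spec W).1.inf (chart_spec W').1,
      inf_le_left.trans (chart_spec W).2⟩
    have h1 := congrArg (· ≫ ιW W) (pt_map T c hc (homOfLE (show n ≤ W from (show n.1 ≤ W.1 from inf_le_left)) : n ⟶ W))
    have h2 := congrArg (· ≫ ιW W') (pt_map T c hc (homOfLE (show n ≤ W' from (show n.1 ≤ W'.1 from inf_le_right)) : n ⟶ W'))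
    let f₁ : n ⟶ W := homOfLE (show n ≤ W from (show n.1 ≤ W.1 from inf_le_left))
    let f₂ : n ⟶ W' := homOfLE (show n ≤ W' from (show n.1 ≤ W'.1 from inf_le_right))
    have e1 : pt T n ≫ ιW n = X.homOfLE inf_le_left ≫ pt T W ≫ ιW W :=
      ((congrArg (pt T n ≫ ·) (wι f₁)).symm.trans (Category.assoc _ _ _).symm).trans (h1.trans (Category.assoc _ _ _))
    have e2 : pt T n ≫ ιW n = X.homOfLE inf_le_right ≫ pt T W' ≫ ιW W' :=
      ((congrArg (pt T n ≫ ·) (wι f₂)).symm.trans (Category.assoc _ _ _).symm).trans (h2.trans (Category.assoc _ _ _))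
    exact e1.symm.trans e2
  let ii : X ⟶ colimit F := 𝒳.glueMorphisms (fun W => pt T W ≫ ιW W) (fun W W' => by
    refine (cancel_epi (isPullback_opens_inf W.1 W'.1).isoPullback.hom).mp ?_
    show (isPullback_opens_inf _ _).isoPullback.hom ≫ pullback.fst _ _ ≫ _ =
      (isPullback_opens_inf _ _).isoPullback.hom ≫ pullback.snd _ _ ≫ _
    rw [(isPullback_opens_inf W.1 W'.1).isoPullback_hom_fst_assoc,
      (isPullback_opens_inf W.1 W'.1).isoPullback_hom_snd_assoc]
    exact hG W W')
  have hii : ∀ W : Jc U, W.1.ι ≫ ii = pt T W ≫ ιW W := fun W => 𝒳.ι_glueMorphisms _ _ W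
  have hflat : Flat ff := IsZariskiLocalAtSource.of_openCover (P := @Flat)
    (Scheme.IsLocallyDirected.openCover F) fun W => by
    show Flat (ιW W ≫ ff)
    rw [hff]
    haveI := T.flat
    have h2 : Flat ((isAffineOpen_up T (chart_spec W).1).fromSpec ≫ T.f) := inferInstance
    rwa [H28Def.fromSpec_comp T.f (isAffineOpen_up T (chart_spec W).1)] at h2
  have hpre : ∀ W : Jc U, ii ⁻¹ᵁ (ιW W).opensRange = W.1 := fun W => by
    refine Opens.ext (Set.ext fun y => ⟨fun hy => ?_, fun hy => ?_⟩)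
    · obtain ⟨z, hz⟩ := hy
      obtain ⟨a, rfl⟩ := pt_surjective T W z
      obtain ⟨j, hj⟩ := Opens.mem_iSup.1 (hcov.ge (Opens.mem_top y))
      let V : Jc U := ⟨U j, j, hU j, le_rfl⟩
      have hyV : ιW V (pt T V ⟨y, hj⟩) = ιW W (pt T W a) :=
        (congr($(hii V) ⟨y, hj⟩)).symm.trans hz.symm
      obtain ⟨n, fV, fW, q, h1, h2⟩ := (Scheme.IsLocallyDirected.ι_eq_ι_iff F).1 hyV
      obtain ⟨e, rfl⟩ := pt_surjective T n q
      have e1 := pt_injective T V ((congr($(pt_map T c hc fV) e)).symm.trans h1)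
      have e2 := pt_injective T W ((congr($(pt_map T c hc fW) e)).symm.trans h2)
      have : (e.1 : X) = y :=
        (congr($(X.homOfLE_ι (leOfHom fV)) e)).symm.trans (congrArg V.1.ι e1)
      rw [← this]
      exact leOfHom fW e.2
    · exact ⟨pt T W ⟨y, hy⟩, (congr($(hii W) ⟨y, hy⟩)).symm⟩
  have hsq : ∀ W : Jc U, IsPullback (pt T W) W.1.ι (ιW W) ii := fun W =>
    IsOpenImmersion.isPullback _ _ _ _ (hii W) (by rw [hpre, Scheme.Opens.opensRange_ι])
  have hTsq : ∀ W : Jc U, IsPullback (pt T W) (W.1.ι ≫ x) (ιW W ≫ ff) (specRes A) := fun W => by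
    have hW := isAffineOpen_up T (chart_spec W).1
    have h1 : IsPullback (pt T W) W.1.ι hW.fromSpec T.i :=
      IsOpenImmersion.isPullback _ _ _ _ (pt_fromSpec T W).symm
        (by rw [hW.opensRange_fromSpec, preimage_up, Scheme.Opens.opensRange_ι])
    rw [hff, ← H28Def.fromSpec_comp T.f hW]
    exact h1.paste_vert T.isPullback
  have hpb : IsPullback ii x ff (specRes A) :=
    Scheme.isPullback_of_openCover ii x ff (specRes A) (Scheme.IsLocallyDirected.openCover F) fun W => by
      show IsPullback (pullback.snd ii (ιW W)) (pullback.fst ii (ιW W) ≫ x)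
        (ιW W ≫ ff) (specRes A)
      refine (hTsq W).of_iso (hsq W).flip.isoPullback (Iso.refl _) (Iso.refl _) (Iso.refl _) ?_ ?_ ?_ ?_
      · rw [Iso.refl_hom, Category.comp_id]; exact (hsq W).flip.isoPullback_hom_snd.symm
      · rw [Iso.refl_hom, Category.comp_id, ← Category.assoc, (hsq W).flip.isoPullback_hom_fst]
      · simp
      · simp
  let η : DefSch X x A := ⟨colimit F, ff, hflat, ii, hpb⟩
  have hup : ∀ W : Jc U, (ιW W).opensRange = up η W.1 := fun W =>
    le_antisymm (H24DefAut.le_of_preimage_le η (by rw [preimage_up]; exact (hpre W).le))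
      (H24DefAut.le_of_preimage_le η (by rw [preimage_up]; exact (hpre W).ge))
  have hθ : ∀ W : Jc U, ∃ θ : S η W.1 →+* S T W.1,
      Spec.map (CommRingCat.ofHom θ) ≫ (isAffineOpen_up η (chart_spec W).1).fromSpec = ιW W := fun W => by
    have hW := isAffineOpen_up η (chart_spec W).1
    have hr : Set.range (ιW W) ⊆ Set.range hW.fromSpec := by
      rw [hW.range_fromSpec, ← hup W]
      exact subset_rfl
    refine ⟨(Spec.preimage (IsOpenImmersion.lift hW.fromSpec (ιW W) hr)).hom, ?_⟩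
    rw [CommRingCat.ofHom_hom, Spec.map_preimage, IsOpenImmersion.lift_fac]
  choose θ hθ using hθ
  have θsc : ∀ (W : Jc U) a, θ W (sc η W.1 a) = sc T W.1 a := fun W a => by
    have h1 := hff W
    rw [← hθ W, Category.assoc, H28Def.fromSpec_comp η.f (isAffineOpen_up η (chart_spec W).1),
      ← Spec.map_comp] at h1
    exact congr($(Spec.map_injective h1) a)
  have θred : ∀ (W : Jc U) r, red T W.1 (θ W r) = red η W.1 r := fun W r => by
    have h1 := hii W
    rw [← hθ W, ← cancel_epi (chart_spec W).1.isoSpec.inv] at h1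
    have h2 : (chart_spec W).1.fromSpec ≫ η.i =
        (chart_spec W).1.isoSpec.inv ≫ pt T W ≫ Spec.map (CommRingCat.ofHom (θ W)) ≫
          (isAffineOpen_up η (chart_spec W).1).fromSpec := (Category.assoc _ _ _).trans h1
    rw [← IsAffineOpen.SpecMap_appLE_fromSpec η.i (isAffineOpen_up η (chart_spec W).1) (chart_spec W).1
      (preimage_up η W.1).ge] at h2
    simp only [pt, Category.assoc, Iso.inv_hom_id_assoc] at h2
    rw [← Spec.map_comp_assoc, cancel_mono] at h2
    exact (congr($(Spec.map_injective h2) r)).symm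
  have θrs : ∀ (W' W : Jc U) (h : W'.1 ≤ W.1) r, tr T c h (θ W r) = θ W' (rs η h r) := fun W' W h r => by
    have h1 : Spec.map (CommRingCat.ofHom (tr T c h)) ≫ ιW W = ιW W' := wι (homOfLE h : W' ⟶ W)
    rw [← hθ W, ← hθ W', ← (isAffineOpen_up η (chart_spec W).1).map_fromSpec
      (isAffineOpen_up η (chart_spec W').1) (homOfLE (up_mono η h)).op, ← Category.assoc, ← Category.assoc] at h1
    rw [cancel_mono] at h1
    rw [← Spec.map_comp, ← Spec.map_comp] at h1
    exact congr($(Spec.map_injective h1) r)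
  let app : ∀ j W, Af (U j) W → S η W →+* S T W := fun j W hW =>
    ((c j (chart (U := U) ⟨W, j, hW⟩)).app W
      (af_inf hW.1 hW.2 (chart_spec (U := U) ⟨W, j, hW⟩).2)).comp (θ ⟨W, j, hW⟩)
  let ψ : ∀ j, Fam (𝟙 A) η T (Af (U j)) := fun j =>
    { app := app j
      app_rs := fun W W' hW hW' h r => by
        let n : Jc U := ⟨W, j, hW⟩
        let n' : Jc U := ⟨W', j, hW'⟩
        show (c j (chart n')).app W' _ (θ n' (rs η h r)) = rs T h ((c j (chart n)).app W _ (θ n r))
        rw [← θrs n' n h]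
        show (c j (chart n')).app W' _ ((c (chart n') (chart n)).app W' _ (rs T h (θ n r))) = _
        rw [← hc j (chart n') (chart n) W' _ _ (af_inf hW'.1 hW'.2 (h.trans (chart_spec n).2)),
          (c j (chart n)).app_rs W W']
      app_sc := fun W hW a => by
        show (c j _).app W _ (θ ⟨W, j, hW⟩ (sc η W a)) = _
        rw [θsc ⟨W, j, hW⟩, (c j _).app_sc]
      red_app := fun W hW r => by
        show red T W ((c j _).app W _ (θ ⟨W, j, hW⟩ r)) = _
        rw [(c j _).red_app, θred ⟨W, j, hW⟩] }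
  refine ⟨η, ψ, fun i j W hi hj hij r => ?_⟩
  show (c i (chart (U := U) ⟨W, i, hi⟩)).app W _ (θ ⟨W, i, hi⟩ r) =
    (c i j).app W hij ((c j (chart (U := U) ⟨W, j, hj⟩)).app W _ (θ ⟨W, j, hj⟩ r))
  exact hc i j _ W hij _ _ _

end Groth.Agent.H24SmDef
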