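import Groth.Agent.H24SmDef.Fam
import Groth.Agent.H24DefTan.Lift
import Groth.Agent.H24Def.DefSection
import Groth.Agent.H28Def.DefFunctor

/-!
# Local lifting of families and global morphisms from families
-/

set_option autoImplicit false
set_option linter.style.haveILetI false

universe u

open CategoryTheory CategoryTheory.Limits AlgebraicGeometry IsLocalRing ArtFun ArtFun.Art Opposite
open TopologicalSpace

noncomputable section

namespace Groth.Agent.H24SmDef

open Groth.Agent.H24DefTan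

variable {k : Type u} [Field k] {X : Scheme.{u}} {x : X ⟶ specPt k} {A B B₀ : Art k k}

theorem ker_le_maximalIdeal (h : B ⟶ B₀) : RingHom.ker h.toAlgHom ≤ maximalIdeal B := fun b hb => by
  rw [RingHom.mem_ker] at hb
  rw [mem_maximalIdeal_iff, ← res_app h]
  show B₀.res (h.toAlgHom b) = 0
  rw [hb, map_zero]

namespace Fam

/-- Over an affine open of a smooth scheme a family lifts along a surjection. -/
theorem exists_lift [Smooth x] {g : A ⟶ B} {h : B ⟶ B₀} {g₀ : A ⟶ B₀} (e : ∀ a, h (g a) = g₀ a)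
    (hh : Function.Surjective h) {η : DefSch X x A} {ξ : DefSch X x B} {ξ₀ : DefSch X x B₀} {V : X.Opens}
    (hV : IsAffineOpen V) (q : Fam h ξ ξ₀ (Af V)) (φ₀ : Fam g₀ η ξ₀ (Af V)) :
    ∃ φ : Fam g η ξ (Af V), ∀ W hW r, q.app W hW (φ.app W hW r) = φ₀.app W hW r := by
  have hnilK : ∀ W, Af V W → IsNilpotent ((RingHom.ker h.toAlgHom).map (sc ξ W)) := fun W _ => by
    obtain ⟨n, hn⟩ := (isArtinianRing_iff_isNilpotent_maximalIdeal B).1 inferInstance
    refine ⟨n, ?_⟩
    rw [← Ideal.map_pow, eq_bot_iff.2 ((Ideal.pow_right_mono (ker_le_maximalIdeal h) n).trans hn.le)]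
    exact Ideal.map_bot
  have hnilR : ∀ W, IsAffineOpen W → IsNilpotent (RingHom.ker (red ξ W)) := fun W hW => by
    obtain ⟨n, hn⟩ := (isArtinianRing_iff_isNilpotent_maximalIdeal B).1 inferInstance
    refine ⟨n, ?_⟩
    have : RingHom.ker (red ξ W) = (maximalIdeal B).map (sc ξ W) := Ideal.ext (red_eq_zero_iff ξ hW)
    rw [this, ← Ideal.map_pow, hn]
    exact Ideal.map_bot
  have hVV : Af V V := ⟨hV, le_rfl⟩
  obtain ⟨ψ, hψq, hψsc⟩ : ∃ ψ : S η V →+* S ξ V, (∀ r, q.app V hVV (ψ r) = φ₀.app V hVV r) ∧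
      ∀ a, ψ (sc η V a) = sc ξ V (g a) := by
    letI : Algebra A (S η V) := (sc η V).toAlgebra
    letI : Algebra A (S ξ V) := ((sc ξ V).comp g.toAlgHom.toRingHom).toAlgebra
    letI : Algebra A (S ξ₀ V) := ((sc ξ₀ V).comp g₀.toAlgHom.toRingHom).toAlgebra
    haveI : Algebra.FormallySmooth A (S η V) :=
      RingHom.formallySmooth_algebraMap.mp (H24Def.formallySmooth_scalar η (isAffineOpen_up η hV))
    let q' : S ξ V →ₐ[A] S ξ₀ V :=
      { q.app V hVV with
        commutes' := fun a => by
          show q.app V hVV (sc ξ V (g a)) = sc ξ₀ V (g₀ a)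
          rw [q.app_sc, e] }
    let f : S η V →ₐ[A] S ξ₀ V :=
      { φ₀.app V hVV with commutes' := fun a => φ₀.app_sc V hVV a }
    have hker : IsNilpotent (RingHom.ker q') := by
      have : RingHom.ker q' = (RingHom.ker h.toAlgHom).map (sc ξ V) :=
        Ideal.ext fun r => (q.surjective_and_ker hh hVV hV).2 r
      rw [this]
      exact hnilK V hVV
    let L := Algebra.FormallySmooth.liftOfSurjective f q' (q.surjective_and_ker hh hVV hV).1 hker
    exact ⟨L.toRingHom, fun r => Algebra.FormallySmooth.liftOfSurjective_apply f q' _ _ r, fun a => L.commutes a⟩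
  have hψred : ∀ r, red ξ V (ψ r) = red η V r := fun r => by
    rw [← q.red_app V hVV, hψq, φ₀.red_app]
  have hex : ∀ W (hW : Af V W), ∃ β : S η W →+* S ξ W, ∀ r, β (rs η hW.2 r) = rs ξ hW.2 (ψ r) := by
    rintro W ⟨hW, hle⟩
    haveI := isOpenImmersion_specMap_r0 (isAffineOpen_up η hV) (isAffineOpen_up η hW) (up_mono η hle)
    let G := Spec.map (CommRingCat.ofHom ((rs ξ hle).comp ψ))
    have hsur : ∀ p : Spec (CommRingCat.of (S ξ W)), ∃ p', Spec.map (CommRingCat.ofHom (red ξ W)) p' = p := by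
      intro p
      have h1 : Set.range (PrimeSpectrum.comap (red ξ W)) = Set.univ := by
        rw [_root_.range_comap_of_surjective _ _ (red_surjective ξ hW),
          PrimeSpectrum.zeroLocus_eq_univ_iff]
        intro a ha
        obtain ⟨n, hn⟩ := hnilR W hW
        refine ⟨n, ?_⟩
        have := Ideal.pow_mem_pow ha n
        rwa [hn, Ideal.zero_eq_bot, Ideal.mem_bot] at this
      exact h1.ge (Set.mem_univ p)
    have hrange : Set.range G ⊆ Set.range (Spec.map (CommRingCat.ofHom (r0 (up_mono η hle)))) := by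
      rintro _ ⟨p, rfl⟩
      obtain ⟨p', rfl⟩ := hsur p
      have e' : Spec.map (CommRingCat.ofHom (red ξ W)) ≫ G =
          Spec.map (CommRingCat.ofHom (red η W)) ≫ Spec.map (CommRingCat.ofHom (r0 (up_mono η hle))) := by
        rw [← Spec.map_comp, ← Spec.map_comp, ← CommRingCat.ofHom_comp, ← CommRingCat.ofHom_comp]
        congr 1
        ext r
        show red ξ W (rs ξ hle (ψ r)) = red η W (rs η hle r)
        rw [red_rs, hψred, red_rs]
      exact ⟨Spec.map (CommRingCat.ofHom (red η W)) p', (congr($(e') p')).symm⟩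
    refine ⟨(Spec.preimage (IsOpenImmersion.lift (Spec.map (CommRingCat.ofHom (r0 (up_mono η hle)))) G hrange)).hom,
      fun r => ?_⟩
    have e' := IsOpenImmersion.lift_fac (Spec.map (CommRingCat.ofHom (r0 (up_mono η hle)))) G hrange
    rw [← Spec.map_preimage (IsOpenImmersion.lift (Spec.map (CommRingCat.ofHom (r0 (up_mono η hle)))) G hrange),
      ← Spec.map_comp] at e'
    exact congr($(Spec.map_injective e') r)
  choose β hβ using hex
  have hext : ∀ {W : X.Opens} (hW : Af V W) {R : Type u} [CommRing R] {F F' : S η W →+* R},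
      (∀ r, F (rs η hW.2 r) = F' (rs η hW.2 r)) → F = F' := fun {W} hW {R} _ {F F'} hF =>
    r0_ext (isAffineOpen_up η hV) (isAffineOpen_up η hW.1) (up_mono η hW.2) (RingHom.ext hF)
  let φ : Fam g η ξ (Af V) :=
    { app := β
      app_rs := fun W W' hW hW' hle r => RingHom.congr_fun (hext hW (F := (β W' hW').comp (rs η hle))
        (F' := (rs ξ hle).comp (β W hW)) fun s => by
          show β W' hW' (rs η hle (rs η hW.2 s)) = rs ξ hle (β W hW (rs η hW.2 s))
          rw [rs_rs, hβ W' hW', hβ W hW, rs_rs]) r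
      app_sc := fun W hW a => by rw [← rs_sc η hW.2 a, hβ W hW, hψsc, rs_sc]
      red_app := fun W hW r => RingHom.congr_fun (hext hW (F := (red ξ W).comp (β W hW)) (F' := red η W)
        fun s => by
          show red ξ W (β W hW (rs η hW.2 s)) = red η W (rs η hW.2 s)
          rw [hβ W hW, red_rs, hψred, red_rs]) r }
  refine ⟨φ, fun W hW r => RingHom.congr_fun (hext hW (F := (q.app W hW).comp (β W hW)) (F' := φ₀.app W hW)
    fun s => ?_) r⟩
  show q.app W hW (β W hW (rs η hW.2 s)) = φ₀.app W hW (rs η hW.2 s)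
  rw [hβ W hW, q.app_rs V W hVV hW, hψq, φ₀.app_rs V W hVV hW]

/-- Over an affine open of a smooth scheme two deformations over the same base are isomorphic. -/
theorem exists_local [Smooth x] (η ξ : DefSch X x A) {V : X.Opens} (hV : IsAffineOpen V) :
    Nonempty (Fam (𝟙 A) η ξ (Af V)) := by
  obtain ⟨e₁⟩ := H28Def.nonempty_iso_trivBase (η.baseChange (toBase A))
  obtain ⟨e₂⟩ := H28Def.nonempty_iso_trivBase (ξ.baseChange (toBase A))
  let q : Mor (toBase A) ξ (ξ.baseChange (toBase A)) := Mor.ofIso (DefSch.Iso.refl _)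
  let p : Mor (toBase A) η (ξ.baseChange (toBase A)) := Mor.ofIso (e₁.symm.trans e₂)
  obtain ⟨φ, -⟩ := exists_lift (g := 𝟙 A) (g₀ := toBase A) (fun _ => rfl) A.res_surjective hV
    (ofMor q (Af V)) (ofMor p (Af V))
  exact ⟨φ⟩

end Fam

end Groth.Agent.H24SmDef
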