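import Groth.Agent.H24SmDef.Cech
import Groth.Agent.H24SmDef.Glue

/-!
# The obstruction cocycle of a deformation of a smooth scheme along a small extension
-/

set_option autoImplicit false
set_option linter.style.haveILetI false

universe u

open CategoryTheory CategoryTheory.Limits AlgebraicGeometry IsLocalRing ArtFun ArtFun.Art Opposite
open TopologicalSpace

noncomputable section

namespace Groth.Agent.H24SmDef

open Groth.Agent.H24DefTan Groth.Agent.H15Site Groth.Agent.LeadBC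

variable {k : Type u} [Field k] {X : Scheme.{u}} [X.Over (Spec (CommRingCat.of k))] [QuasiSeparated (str k X)]
variable {ι : Type u} (U : ι → X.Opens) {C' C : Art k k} {n m : ℕ}

/-- Local lifts of a deformation by a model, with lifted transition maps. -/
structure Model (p : C' ⟶ C) (ξ : DefSch X (str k X) C) : Type (u + 1) where
  /-- the model -/
  T : DefSch X (str k X) C'
  /-- the local reductions -/
  φ : ∀ j, Fam p T ξ (Af (U j))
  /-- the transition maps -/
  g : ∀ i j, Fam (𝟙 C') T T (Af (U i ⊓ U j))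
  comm : ∀ i j W (hi : Af (U i) W) (hj : Af (U j) W) (hij : Af (U i ⊓ U j) W) (r : S T W),
    (φ i).app W hi ((g i j).app W hij r) = (φ j).app W hj r

variable {U} {p : C' ⟶ C} {ξ : DefSch X (str k X) C} {b : Fin n → C'}

/-- `v` measures the failure of the transition maps to be a cocycle. -/
def Model.HasObs (M : Model U p ξ) (hb : Killed b) (v : Fin n → Kt (k := k) U 2) : Prop :=
  ∀ (a : Fin 3 → ι) (W : X.Opens) (h₀₁ : Af (U (a 0) ⊓ U (a 1)) W) (h₁₂ : Af (U (a 1) ⊓ U (a 2)) W)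
    (h₀₂ : Af (U (a 0) ⊓ U (a 2)) W) (h : W ≤ CechTop.cap U a) (r : S M.T W),
    (M.g (a 0) (a 1)).app W h₀₁ ((M.g (a 1) (a 2)).app W h₁₂ r) =
      (M.g (a 0) (a 2)).app W h₀₂ r + emb M.T hb h₀₁.1 (fun i => tv (v i a) W h (red M.T W r))

theorem cap_le_inf (a : Fin (m + 1) → ι) (i j : Fin (m + 1)) : CechTop.cap U a ≤ U (a i) ⊓ U (a j) :=
  le_inf (iInf_le _ i) (iInf_le _ j)

theorem le_cap_three {a : Fin 3 → ι} {W : X.Opens} (h₀ : W ≤ U (a 0)) (h₁ : W ≤ U (a 1)) (h₂ : W ≤ U (a 2)) :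
    W ≤ CechTop.cap U a := le_iInf fun i => by fin_cases i <;> assumption

theorem le_cap_two {a : Fin 2 → ι} {W : X.Opens} (h₀ : W ≤ U (a 0)) (h₁ : W ≤ U (a 1)) :
    W ≤ CechTop.cap U a := le_iInf fun i => by fin_cases i <;> assumption

variable [Smooth (str k X)] [X.IsSeparated] (hU : ∀ j, IsAffineOpen (U j))

include hU in
theorem nonempty_model (hp : Function.Surjective p) (hx : Flat (str k X)) (ξ : DefSch X (str k X) C) :
    Nonempty (Model U p ξ) := by
  let T := DefSch.trivial X (str k X) hx C'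
  let m : Mor p T (T.baseChange p) := Mor.ofIso (DefSch.Iso.refl _)
  let θ := fun j => (Fam.exists_local (T.baseChange p) ξ (hU j)).some
  let φ : ∀ j, Fam p T ξ (Af (U j)) := fun j => (Fam.ofMor m _).comp' (θ j) fun _ => rfl
  choose g hg using fun i j => Fam.exists_lift (g := 𝟙 C') (g₀ := p) (fun _ => rfl) hp ((hU i).inf (hU j))
    ((φ i).mono fun W hW => af_left W hW) ((φ j).mono fun W hW => af_right W hW)
  exact ⟨⟨T, φ, g, fun i j W hi hj hij r => hg i j W hij r⟩⟩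

include hU in
theorem Model.exists_hasObs (M : Model U p ξ) (hp : Function.Surjective p) (hb : Killed b)
    (hli : LinearIndependent k b) (hspan : RingHom.ker p.toAlgHom ≤ Ideal.span (Set.range b)) :
    ∃ v, M.HasObs hb v := by
  have hex : ∀ a : Fin 3 → ι, ∃ s : Fin n → V1 k X (CechTop.cap U a),
      ∀ W (hW : Af (CechTop.cap U a) W) (r : S M.T W),
        (M.g (a 0) (a 1)).app W ⟨hW.1, hW.2.trans (cap_le_inf a 0 1)⟩
            ((M.g (a 1) (a 2)).app W ⟨hW.1, hW.2.trans (cap_le_inf a 1 2)⟩ r) =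
          (M.g (a 0) (a 2)).app W ⟨hW.1, hW.2.trans (cap_le_inf a 0 2)⟩ r +
            emb M.T hb hW.1 (fun i => tv (s i) W hW.2 (red M.T W r)) := by
    intro a
    have hV := isAffineOpen_capU U hU a
    let F : ∀ i j, Fam (𝟙 C') M.T M.T (Af (CechTop.cap U a)) := fun i j =>
      (M.g (a i) (a j)).mono fun W hW => ⟨hW.1, hW.2.trans (cap_le_inf a i j)⟩
    refine Fam.exists_diff hb hli hV (F 0 2) ((F 1 2).comp (F 0 1)) fun r => ?_
    have h0 : Af (U (a 0)) (CechTop.cap U a) := ⟨hV, iInf_le _ _⟩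
    have h1 : Af (U (a 1)) (CechTop.cap U a) := ⟨hV, iInf_le _ _⟩
    have h2 : Af (U (a 2)) (CechTop.cap U a) := ⟨hV, iInf_le _ _⟩
    refine Ideal.map_mono hspan ?_
    rw [← ((M.φ (a 0)).surjective_and_ker hp h0 hV).2, map_sub, sub_eq_zero]
    show (M.φ (a 0)).app _ h0 ((M.g (a 0) (a 1)).app _ _ ((M.g (a 1) (a 2)).app _ _ r)) =
      (M.φ (a 0)).app _ h0 ((M.g (a 0) (a 2)).app _ _ r)
    rw [M.comm _ _ _ h0 h1, M.comm _ _ _ h1 h2, M.comm _ _ _ h0 h2]
  choose s hs using hex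
  exact ⟨fun i a => s a i, fun a W h₀₁ h₁₂ h₀₂ h r => hs a W ⟨h₀₁.1, h⟩ r⟩

theorem app_add_emb {η η' : DefSch X (str k X) C'} {Bp : X.Opens → Prop} (φ : Fam (𝟙 C') η η' Bp)
    (hb : Killed b) {W : X.Opens} (hB : Bp W) (hW : IsAffineOpen W) (r : S η W) (c : Fin n → Γ(X, W)) :
    φ.app W hB (r + emb η hb hW c) = φ.app W hB r + emb η' hb hW c := by
  rw [map_add, φ.app_emb' hb hB hW]

include hU in
theorem Model.HasObs.dK_eq_zero {M : Model U p ξ} {hb : Killed b} (hli : LinearIndependent k b)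
    {v : Fin n → Kt (k := k) U 2} (h : M.HasObs hb v) (i : Fin n) : dK k U (Tsh k X) 2 (v i) = 0 := by
  funext a
  have hV := isAffineOpen_capU U hU a
  refine tv_ext hV fun r₀ => ?_
  obtain ⟨r, rfl⟩ := red_surjective M.T hV r₀
  have hle : ∀ l, CechTop.cap U a ≤ U (a l) := fun l => iInf_le _ l
  have P : ∀ l l', Af (U (a l) ⊓ U (a l')) (CechTop.cap U a) := fun l l' => ⟨hV, cap_le_inf a l l'⟩
  let G := fun l l' => (M.g (a l) (a l')).app _ (P l l')
  let E : ∀ (c : Fin 3 → Fin 4), Fin n → Γ(X, CechTop.cap U a) := fun c i =>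
    tv (v i (a ∘ c)) _ (le_cap_three (hle (c 0)) (hle (c 1)) (hle (c 2))) (red M.T _ r)
  have key : ∀ (c : Fin 3 → Fin 4) (s : S M.T (CechTop.cap U a)), red M.T _ s = red M.T _ r →
      G (c 0) (c 1) (G (c 1) (c 2) s) = G (c 0) (c 2) s + emb M.T hb hV (E c) := fun c s hs => by
    have := h (a ∘ c) (CechTop.cap U a) (P (c 0) (c 1)) (P (c 1) (c 2)) (P (c 0) (c 2))
      (le_cap_three (hle (c 0)) (hle (c 1)) (hle (c 2))) s
    rw [hs] at this
    exact this
  have k0 := key ![1, 2, 3] r rfl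
  have k1 := key ![0, 2, 3] r rfl
  have k2 := key ![0, 1, 3] r rfl
  have k3 := key ![0, 1, 2] (G 2 3 r) ((M.g _ _).red_app _ _ _)
  simp only [Matrix.cons_val_zero, Matrix.cons_val_one, Matrix.cons_val_two, Matrix.head_cons,
    Matrix.tail_cons] at k0 k1 k2 k3
  rw [k0, app_add_emb (M.g _ _) hb (P 0 1) hV, k2, k1] at k3
  have h' : emb M.T hb hV (E ![0, 1, 3] + E ![1, 2, 3]) = emb M.T hb hV (E ![0, 2, 3] + E ![0, 1, 2]) := by
    rw [map_add, map_add]
    linear_combination k3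
  have hc := congrFun (emb_injective M.T hb hV hli h') i
  have e0 : (0 : Fin 4).succAbove = ![1, 2, 3] := by decide
  have e1 : (1 : Fin 4).succAbove = ![0, 2, 3] := by decide
  have e2 : (2 : Fin 4).succAbove = ![0, 1, 3] := by decide
  have e3 : (3 : Fin 4).succAbove = ![0, 1, 2] := by decide
  have eq' : ∀ (c c' : Fin 3 → ι) (_ : c = c') (q : CechTop.cap U a ≤ CechTop.cap U c)
      (q' : CechTop.cap U a ≤ CechTop.cap U c') (z : Γ(X, CechTop.cap U a)),
      tv (v i c) _ q z = tv (v i c') _ q' z := by rintro c _ rfl q q' z; rfl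
  show tv (dK k U (Tsh k X) 2 (v i) a) _ _ (red M.T _ r) = tv 0 _ _ (red M.T _ r)
  rw [dK_apply, Fin.sum_univ_four]
  simp only [Fin.val_zero, pow_zero, one_smul, Fin.val_one, pow_one, neg_smul, Fin.val_two, neg_one_sq,
    show ((3 : Fin 4) : ℕ) = 3 from rfl, show (-1 : ℤ) ^ 3 = -1 from rfl]
  rw [tv_add, tv_add, tv_add, tv_neg, tv_neg, tv_zero, tv_resL, tv_resL, tv_resL, tv_resL,
    eq' (a ∘ (0 : Fin 4).succAbove) (a ∘ ![1, 2, 3]) (by rw [e0]) _ (le_cap_three (hle 1) (hle 2) (hle 3)),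
    eq' (a ∘ (1 : Fin 4).succAbove) (a ∘ ![0, 2, 3]) (by rw [e1]) _ (le_cap_three (hle 0) (hle 2) (hle 3)),
    eq' (a ∘ (2 : Fin 4).succAbove) (a ∘ ![0, 1, 3]) (by rw [e2]) _ (le_cap_three (hle 0) (hle 1) (hle 3)),
    eq' (a ∘ (3 : Fin 4).succAbove) (a ∘ ![0, 1, 2]) (by rw [e3]) _ (le_cap_three (hle 0) (hle 1) (hle 2))]
  simp only [E, Pi.add_apply] at hc
  linear_combination hc

end Groth.Agent.H24SmDef
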