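import Groth.Agent.H24SmDef.Obs

/-!
# Independence and vanishing of the obstruction cocycle
-/

set_option autoImplicit false
set_option linter.style.haveILetI false

universe u

open CategoryTheory CategoryTheory.Limits AlgebraicGeometry IsLocalRing ArtFun ArtFun.Art Opposite
open TopologicalSpace

noncomputable section

namespace Groth.Agent.H24SmDef

open Groth.Agent.H24DefTan Groth.Agent.H15Site Groth.Agent.LeadBC

variable {k : Type u} [Field k] {X : Scheme.{u}} [X.Over (Spec (CommRingCat.of k))] [QuasiSeparated (str k X)]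
variable {ι : Type u} {U : ι → X.Opens} {C' C : Art k k} {n m : ℕ}
variable {p : C' ⟶ C} {ξ : DefSch X (str k X) C} {b : Fin n → C'}

theorem tv_sum {P : X.Opens} {α : Type} (s : Finset α) (f : α → V1 k X P) (W : X.Opens) (h : W ≤ P)
    (r : Γ(X, W)) : tv (∑ i ∈ s, f i) W h r = ∑ i ∈ s, tv (f i) W h r :=
  map_sum (AddMonoidHom.mk' (fun v : V1 k X P => tv v W h r) fun a c => tv_add a c W h r) f s

/-- Rewriting the kernel in other terms. -/
theorem Model.HasObs.change {M : Model U p ξ} {hb : Killed b} {v : Fin n → Kt (k := k) U 2}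
    (h : M.HasObs hb v) {e : Fin m → C'} (he : Killed e) (c : Fin n → Fin m → k)
    (hc : ∀ i, b i = ∑ l, c i l • e l) : M.HasObs he (fun l => ∑ i, c i l • v i) := by
  intro a W h₀₁ h₁₂ h₀₂ hW r
  rw [h a W h₀₁ h₁₂ h₀₂ hW r, emb_change M.T hb h₀₁.1 he c hc]
  congr 2
  funext l
  show _ = tv ((∑ i, c i l • v i) a) W hW (red M.T W r)
  rw [Finset.sum_apply, tv_sum]
  exact Finset.sum_congr rfl fun i _ => (tv_smul _ _ _ _ _).symm

variable [Smooth (str k X)] [X.IsSeparated] (hU : ∀ j, IsAffineOpen (U j))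

include hU in
/-- The class does not depend on the choices. -/
theorem Model.HasObs.exists_coboundary {M₁ M₂ : Model U p ξ} (hp : Function.Surjective p) {hb : Killed b}
    (hli : LinearIndependent k b) (hspan : RingHom.ker p.toAlgHom ≤ Ideal.span (Set.range b))
    {v₁ v₂ : Fin n → Kt (k := k) U 2} (h₁ : M₁.HasObs hb v₁) (h₂ : M₂.HasObs hb v₂) (i : Fin n) :
    ∃ w, dK k U (Tsh k X) 1 w = v₂ i - v₁ i := by
  choose θ hθ using fun j => Fam.exists_lift (g := 𝟙 C') (g₀ := p) (fun _ => rfl) hp (hU j) (M₂.φ j) (M₁.φ j)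
  have hex : ∀ a : Fin 2 → ι, ∃ s : Fin n → V1 k X (CechTop.cap U a),
      ∀ W (hW : Af (CechTop.cap U a) W) (r : S M₁.T W),
        (M₂.g (a 0) (a 1)).app W ⟨hW.1, hW.2.trans (cap_le_inf a 0 1)⟩
            ((θ (a 1)).app W ⟨hW.1, hW.2.trans (iInf_le _ _)⟩ r) =
          (θ (a 0)).app W ⟨hW.1, hW.2.trans (iInf_le _ _)⟩
              ((M₁.g (a 0) (a 1)).app W ⟨hW.1, hW.2.trans (cap_le_inf a 0 1)⟩ r) +
            emb M₂.T hb hW.1 (fun i => tv (s i) W hW.2 (red M₁.T W r)) := by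
    intro a
    have hV := isAffineOpen_capU U hU a
    let θ' := fun l : Fin 2 => (θ (a l)).mono (Bp' := Af (CechTop.cap U a)) fun W hW =>
      ⟨hW.1, hW.2.trans (iInf_le _ l)⟩
    let g₂ := (M₂.g (a 0) (a 1)).mono (Bp' := Af (CechTop.cap U a)) fun W hW => ⟨hW.1, hW.2.trans (cap_le_inf a 0 1)⟩
    let g₁ := (M₁.g (a 0) (a 1)).mono (Bp' := Af (CechTop.cap U a)) fun W hW => ⟨hW.1, hW.2.trans (cap_le_inf a 0 1)⟩
    refine Fam.exists_diff hb hli hV (g₁.comp (θ' 0)) ((θ' 1).comp g₂) fun r => ?_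
    have h0 : Af (U (a 0)) (CechTop.cap U a) := ⟨hV, iInf_le _ _⟩
    have h1 : Af (U (a 1)) (CechTop.cap U a) := ⟨hV, iInf_le _ _⟩
    refine Ideal.map_mono hspan ?_
    rw [← ((M₂.φ (a 0)).surjective_and_ker hp h0 hV).2, map_sub, sub_eq_zero]
    show (M₂.φ (a 0)).app _ h0 ((M₂.g (a 0) (a 1)).app _ _ ((θ (a 1)).app _ _ r)) =
      (M₂.φ (a 0)).app _ h0 ((θ (a 0)).app _ _ ((M₁.g (a 0) (a 1)).app _ _ r))
    rw [M₂.comm _ _ _ h0 h1, hθ (a 1), hθ (a 0), M₁.comm _ _ _ h0 h1]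
  choose s hs using hex
  refine ⟨fun a => s a i, ?_⟩
  funext a
  have hV := isAffineOpen_capU U hU a
  refine tv_ext hV fun r₀ => ?_
  obtain ⟨r, rfl⟩ := red_surjective M₁.T hV r₀
  have hle : ∀ l, CechTop.cap U a ≤ U (a l) := fun l => iInf_le _ l
  have P : ∀ l l', Af (U (a l) ⊓ U (a l')) (CechTop.cap U a) := fun l l' => ⟨hV, cap_le_inf a l l'⟩
  have Q : ∀ l, Af (U (a l)) (CechTop.cap U a) := fun l => ⟨hV, hle l⟩
  let G₁ := fun l l' => (M₁.g (a l) (a l')).app _ (P l l')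
  let G₂ := fun l l' => (M₂.g (a l) (a l')).app _ (P l l')
  let Θ := fun l => (θ (a l)).app _ (Q l)
  let Ew : ∀ (c : Fin 2 → Fin 3), Fin n → Γ(X, CechTop.cap U a) := fun c i =>
    tv (s (a ∘ c) i) _ (le_cap_two (hle (c 0)) (hle (c 1))) (red M₁.T _ r)
  have kw : ∀ (c : Fin 2 → Fin 3) (t : S M₁.T (CechTop.cap U a)), red M₁.T _ t = red M₁.T _ r →
      G₂ (c 0) (c 1) (Θ (c 1) t) = Θ (c 0) (G₁ (c 0) (c 1) t) + emb M₂.T hb hV (Ew c) := fun c t ht => by
    have := hs (a ∘ c) (CechTop.cap U a) ⟨hV, le_cap_two (hle (c 0)) (hle (c 1))⟩ t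
    rw [ht] at this
    exact this
  have w12 := kw ![1, 2] r rfl
  have w02 := kw ![0, 2] r rfl
  have w01 := kw ![0, 1] (G₁ 1 2 r) ((M₁.g _ _).red_app _ _ _)
  simp only [Matrix.cons_val_zero, Matrix.cons_val_one, Matrix.head_cons] at w12 w02 w01
  have o1 : G₁ 0 1 (G₁ 1 2 r) = G₁ 0 2 r +
      emb M₁.T hb hV (fun i => tv (v₁ i a) _ le_rfl (red M₁.T _ r)) := h₁ a _ (P 0 1) (P 1 2) (P 0 2) le_rfl r
  have o2 : G₂ 0 1 (G₂ 1 2 (Θ 2 r)) = G₂ 0 2 (Θ 2 r) +
      emb M₂.T hb hV (fun i => tv (v₂ i a) _ le_rfl (red M₁.T _ r)) := by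
    have := h₂ a _ (P 0 1) (P 1 2) (P 0 2) le_rfl (Θ 2 r)
    rwa [(θ (a 2)).red_app] at this
  rw [w12, app_add_emb (M₂.g _ _) hb (P 0 1) hV, w01, o1, app_add_emb (θ _) hb (Q 0) hV, w02] at o2
  have h' : emb M₂.T hb hV ((fun i => tv (v₁ i a) _ le_rfl (red M₁.T _ r)) + (Ew ![0, 1] + Ew ![1, 2])) =
      emb M₂.T hb hV (Ew ![0, 2] + fun i => tv (v₂ i a) _ le_rfl (red M₁.T _ r)) := by
    rw [map_add, map_add, map_add]
    linear_combination o2
  have hc := congrFun (emb_injective M₂.T hb hV hli h') i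
  have e0 : (0 : Fin 3).succAbove = ![1, 2] := by decide
  have e1 : (1 : Fin 3).succAbove = ![0, 2] := by decide
  have e2 : (2 : Fin 3).succAbove = ![0, 1] := by decide
  have eq' : ∀ (c c' : Fin 2 → ι) (_ : c = c') (q : CechTop.cap U a ≤ CechTop.cap U c)
      (q' : CechTop.cap U a ≤ CechTop.cap U c') (z : Γ(X, CechTop.cap U a)),
      tv (s c i) _ q z = tv (s c' i) _ q' z := by rintro c _ rfl q q' z; rfl
  show tv (dK k U (Tsh k X) 1 (fun a => s a i) a) _ _ (red M₁.T _ r) = tv (v₂ i a - v₁ i a) _ _ (red M₁.T _ r)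
  rw [dK_apply, Fin.sum_univ_three]
  simp only [Fin.val_zero, pow_zero, one_smul, Fin.val_one, pow_one, neg_smul, Fin.val_two, neg_one_sq]
  rw [tv_add, tv_add, tv_neg, tv_sub, tv_resL, tv_resL, tv_resL,
    eq' (a ∘ (0 : Fin 3).succAbove) (a ∘ ![1, 2]) (by rw [e0]) _ (le_cap_two (hle 1) (hle 2)),
    eq' (a ∘ (1 : Fin 3).succAbove) (a ∘ ![0, 2]) (by rw [e1]) _ (le_cap_two (hle 0) (hle 2)),
    eq' (a ∘ (2 : Fin 3).succAbove) (a ∘ ![0, 1]) (by rw [e2]) _ (le_cap_two (hle 0) (hle 1))]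
  simp only [Ew, Pi.add_apply] at hc
  linear_combination hc

omit [Smooth (str k X)] in
/-- A family over `p` defined locally and agreeing on overlaps gives a morphism of deformations. -/
theorem exists_mor_of_local {A B : Art k k} {g : A ⟶ B} {η : DefSch X (str k X) A} {ζ : DefSch X (str k X) B}
    (hU : ∀ j, IsAffineOpen (U j)) (hcov : iSup U = ⊤) (β : ∀ j, Fam g η ζ (Af (U j)))
    (hagree : ∀ i j W (hi : Af (U i) W) (hj : Af (U j) W) (r : S η W),
      (β i).app W hi r = (β j).app W hj r) :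
    ∃ μ : Mor g η ζ, ∀ j W (hj : Af (U j) W) (r : S η W), μ.app W r = (β j).app W hj r := by
  let φ : Fam g η ζ (fun W => ∃ j, Af (U j) W) :=
    { app := fun W hW => (β hW.choose).app W hW.choose_spec
      app_rs := fun W W' hW hW' h r => by
        rw [hagree hW'.choose hW.choose W' hW'.choose_spec ⟨hW'.choose_spec.1, h.trans hW.choose_spec.2⟩,
          (β hW.choose).app_rs W W']
      app_sc := fun W hW a => (β hW.choose).app_sc W hW.choose_spec a
      red_app := fun W hW r => (β hW.choose).red_app W hW.choose_spec r }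
  obtain ⟨μ, hμ⟩ := exists_mor φ (fun W hW => hW.choose_spec.1)
    (fun W W' hW hW' => ⟨hW.choose, hW.choose_spec.1.inf hW'.choose_spec.1, inf_le_left.trans hW.choose_spec.2⟩)
    (top_unique fun q _ => by
      obtain ⟨j, hj⟩ := Opens.mem_iSup.1 (hcov.ge (Opens.mem_top q))
      exact Opens.mem_iSup.2 ⟨⟨U j, j, hU j, le_rfl⟩, hj⟩)
  exact ⟨μ, fun j W hj r => (hμ W ⟨j, hj⟩ r).trans (hagree _ _ W _ hj r)⟩

/-- Vanishing of the classes gives a lift. -/
theorem Model.HasObs.exists_lift {M : Model U p ξ} (hU : ∀ j, IsAffineOpen (U j)) (hcov : iSup U = ⊤)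
    {hb : Killed b} (hb0 : ∀ i, p (b i) = 0) {v : Fin n → Kt (k := k) U 2} (h : M.HasObs hb v)
    (hv : ∀ i, ∃ w, dK k U (Tsh k X) 1 w = v i) :
    ∃ (η : DefSch X (str k X) C'), Nonempty (Mor p η ξ) := by
  choose w hw using hv
  let g' : ∀ i j, Fam (𝟙 C') M.T M.T (Af (U i ⊓ U j)) := fun i j =>
    (M.g i j).add hb (fun _ hW => hW.1) (P := CechTop.cap U ![i, j])
      (fun W hW => hW.2.trans (le_cap_two (a := ![i, j]) inf_le_left inf_le_right)) (fun l => -(w l ![i, j]))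
  have hcoc : ∀ i j l W (hij : Af (U i ⊓ U j) W) (hjl : Af (U j ⊓ U l) W) (hil : Af (U i ⊓ U l) W) (r : S M.T W),
      (g' i l).app W hil r = (g' i j).app W hij ((g' j l).app W hjl r) := by
    classical
    intro i j l W hij hjl hil r
    let a : Fin 3 → ι := ![i, j, l]
    have hi : W ≤ U i := hij.2.trans inf_le_left
    have hj : W ≤ U j := hij.2.trans inf_le_right
    have hl : W ≤ U l := hil.2.trans inf_le_right
    have hW : W ≤ CechTop.cap U a := le_cap_three hi hj hl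
    have ho := h a W hij hjl hil hW r
    let e : ι → ι → Fin n → Γ(X, W) := fun x y m =>
      if hxy : W ≤ CechTop.cap U ![x, y] then tv (w m ![x, y]) W hxy (red M.T W r) else 0
    have he : ∀ x y (hxy : Af (U x ⊓ U y) W) (t : S M.T W), red M.T W t = red M.T W r →
        (g' x y).app W hxy t = (M.g x y).app W hxy t - emb M.T hb hij.1 (e x y) := fun x y hxy t ht => by
      have hcap : W ≤ CechTop.cap U ![x, y] :=
        le_cap_two (hxy.2.trans inf_le_left) (hxy.2.trans inf_le_right)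
      show _ + emb M.T hb _ (fun m => tv (-(w m ![x, y])) W _ (red M.T W t)) = _
      rw [sub_eq_add_neg, ← map_neg]
      congr 2
      funext m
      rw [tv_neg, ht]
      show _ = - e x y m
      rw [show e x y m = tv (w m ![x, y]) W hcap (red M.T W r) from dif_pos hcap]
    rw [he i l hil r rfl, he i j hij _ (by rw [Fam.red_app]), he j l hjl r rfl,
      sub_eq_add_neg ((M.g j l).app W hjl r), ← map_neg, app_add_emb (M.g i j) hb hij hij.1, map_neg]
    have hvv : (fun m => tv (v m a) W hW (red M.T W r)) = e j l - e i l + e i j := by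
      funext m
      have eq' : ∀ (c c' : Fin 2 → ι) (_ : c = c') (q : W ≤ CechTop.cap U c)
          (q' : W ≤ CechTop.cap U c') (z : Γ(X, W)),
          tv (w m c) W q z = tv (w m c') W q' z := by rintro c _ rfl q q' z; rfl
      rw [← hw m, dK_apply, Fin.sum_univ_three]
      simp only [Fin.val_zero, pow_zero, one_smul, Fin.val_one, pow_one, neg_smul, Fin.val_two, neg_one_sq]
      rw [tv_add, tv_add, tv_neg, tv_resL, tv_resL, tv_resL]
      rw [Pi.add_apply, Pi.sub_apply,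
        show e j l m = tv (w m ![j, l]) W (le_cap_two hj hl) (red M.T W r) from dif_pos _,
        show e i l m = tv (w m ![i, l]) W (le_cap_two hi hl) (red M.T W r) from dif_pos _,
        show e i j m = tv (w m ![i, j]) W (le_cap_two hi hj) (red M.T W r) from dif_pos _,
        eq' (a ∘ (0 : Fin 3).succAbove) ![j, l] (funext fun q => by fin_cases q <;> rfl) _ (le_cap_two hj hl),
        eq' (a ∘ (1 : Fin 3).succAbove) ![i, l] (funext fun q => by fin_cases q <;> rfl) _ (le_cap_two hi hl),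
        eq' (a ∘ (2 : Fin 3).succAbove) ![i, j] (funext fun q => by fin_cases q <;> rfl) _ (le_cap_two hi hj)]
      abel
    have ho' : (M.g i j).app W hij ((M.g j l).app W hjl r) =
        (M.g i l).app W hil r + emb M.T hb hij.1 (e j l - e i l + e i j) := by
      rw [← hvv]; exact ho
    rw [map_add, map_sub] at ho'
    linear_combination -ho'
  obtain ⟨η, ψ, hψ⟩ := exists_glued M.T g' hcoc hU hcov
  let β : ∀ j, Fam p η ξ (Af (U j)) := fun j => (ψ j).comp' (M.φ j) fun _ => rfl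
  obtain ⟨μ, -⟩ := exists_mor_of_local hU hcov β fun i j W hi hj r => by
    have hij : Af (U i ⊓ U j) W := ⟨hi.1, le_inf hi.2 hj.2⟩
    show (M.φ i).app W hi ((ψ i).app W hi r) = (M.φ j).app W hj ((ψ j).app W hj r)
    rw [hψ i j W hi hj hij]
    show (M.φ i).app W hi ((g' i j).app W hij _) = _
    rw [Fam.add_app, map_add, M.comm i j W hi hj hij]
    have hk : (M.φ i).app W hi (emb M.T hb hij.1
        (fun l => tv (-(w l ![i, j])) W (le_cap_two hi.2 hj.2) (red M.T W ((ψ j).app W hj r)))) = 0 := by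
      rw [((M.φ i).app_emb hb (hb' := ⟨fun l => by rw [hb0]; exact zero_mem _,
        fun l c _ => by rw [hb0, mul_zero]⟩) hi hij.1)]
      obtain ⟨f, hf⟩ := exists_lifts ξ hij.1
        (fun l => tv (-(w l ![i, j])) W (le_cap_two hi.2 hj.2) (red M.T W ((ψ j).app W hj r)))
      rw [emb_eq ξ _ hij.1 f _ hf]
      exact Finset.sum_eq_zero fun l _ => by rw [hb0, map_zero, zero_mul]
    rw [hk, add_zero]
  exact ⟨η, ⟨μ⟩⟩

omit [Smooth (str k X)] [X.IsSeparated] in
/-- A lift gives a vanishing cocycle. -/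
theorem exists_hasObs_zero {η : DefSch X (str k X) C'} (μ : Mor p η ξ) (hb : Killed b) :
    ∃ M : Model U p ξ, M.HasObs hb (0 : Fin n → Kt (k := k) U 2) := by
  refine ⟨⟨η, fun _ => Fam.ofMor μ _, fun _ _ => Fam.id η _, fun _ _ _ _ _ _ _ => rfl⟩,
    fun a W h₀₁ h₁₂ h₀₂ hW r => ?_⟩
  rw [show (fun i => tv ((0 : Fin n → Kt (k := k) U 2) i a) W hW (red η W r)) = 0 from
    funext fun i => tv_zero W hW _, map_zero, add_zero]
  rfl

end Groth.Agent.H24SmDef
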