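import Groth.Agent.H24SmDef.ObsChange
import Groth.Agent.H24Art.Basic

/-!
# The obstruction theory of a smooth separated scheme
-/

set_option autoImplicit false
set_option linter.style.haveILetI false

universe u

open CategoryTheory CategoryTheory.Limits AlgebraicGeometry IsLocalRing ArtFun ArtFun.Art Opposite
open TopologicalSpace
open scoped TensorProduct

noncomputable section

namespace Groth.Agent.H24SmDef

open Groth.Agent.H24DefTan Groth.Agent.H15Site Groth.Agent.LeadBC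

attribute [local instance 10000] H10Coh.hasSheafifyAb H10Coh.hasWeakSheafifyAb H10Coh.hasExtAb H10Coh.enoughInjAb

variable {k : Type u} [Field k] {X : Scheme.{u}} [X.Over (Spec (CommRingCat.of k))]
variable {C'' C' C : Art k k}

/-- A family killing the kernel of a surjective family factors through it. -/
theorem Fam.exists_desc {A B D : Art k k} {h : A ⟶ B} {g : B ⟶ D} {gh : A ⟶ D}
    {η' : DefSch X (str k X) A} {η : DefSch X (str k X) B} {ξ : DefSch X (str k X) D} {Bp : X.Opens → Prop}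
    (haff : ∀ W, Bp W → IsAffineOpen W) (hh : Function.Surjective h) (e : ∀ a, g (h a) = gh a)
    (π : Fam h η' η Bp) (φ : Fam gh η' ξ Bp) :
    ∃ ψ : Fam g η ξ Bp, ∀ W hW r, ψ.app W hW (π.app W hW r) = φ.app W hW r := by
  have hs := fun W (hW : Bp W) => π.surjective_and_ker hh hW (haff W hW)
  have hker : ∀ W (hW : Bp W), RingHom.ker (π.app W hW) ≤ RingHom.ker (φ.app W hW) := fun W hW r hr => by
    have h1 := ((hs W hW).2 r).1 hr
    refine Ideal.map_le_iff_le_comap.2 (fun a ha => ?_) h1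
    rw [RingHom.mem_ker] at ha
    rw [Ideal.mem_comap, RingHom.mem_ker, φ.app_sc, ← e,
      show h a = 0 from ha, show g.toAlgHom 0 = 0 from map_zero _, map_zero]
  let app := fun W (hW : Bp W) =>
    RingHom.liftOfSurjective (π.app W hW) (hs W hW).1 ⟨φ.app W hW, hker W hW⟩
  have happ : ∀ W hW r, app W hW (π.app W hW r) = φ.app W hW r := fun W hW r =>
    RingHom.liftOfRightInverse_comp_apply _ _ _ _ r
  refine ⟨⟨app, fun W W' hW hW' h' r => ?_, fun W hW b => ?_, fun W hW r => ?_⟩, happ⟩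
  · obtain ⟨r, rfl⟩ := (hs W hW).1 r
    rw [← π.app_rs W W' hW hW', happ, happ, φ.app_rs W W' hW hW']
  · obtain ⟨a, rfl⟩ := hh b
    rw [← π.app_sc W hW, happ, φ.app_sc, e]
  · obtain ⟨r, rfl⟩ := (hs W hW).1 r
    rw [happ, φ.red_app, π.red_app]

variable [QuasiSeparated (str k X)] [LocallyOfFiniteType (str k X)] [X.IsSeparated]
  [DCoh.HasSheafHom (Omega.sheaf (str k X))]
variable {ι : Type u} {U : ι → X.Opens} (hU : ∀ j, IsAffineOpen (U j)) (hcov : iSup U = ⊤)

/-- The second cohomology of the tangent sheaf. -/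
abbrev H2T (k : Type u) [Field k] (X : Scheme.{u}) [X.Over (Spec (CommRingCat.of k))]
    [DCoh.HasSheafHom (Omega.sheaf (str k X))] : Type u :=
  Coh.HH X ((DCoh.sheafHom (Omega.sheaf (str k X))).obj (Coh.structureModule X)) 2

theorem killed_ker {p : C' ⟶ C} (hp : IsSemismallExt p) {n : ℕ} (e : Fin n → ↥(RingHom.ker p.toAlgHom)) :
    Killed (fun i => (e i : C')) :=
  killed_of_semismall hp fun i => RingHom.mem_ker.1 (e i).2

/-- `ω` is the class of an obstruction cocycle. -/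
def IsObsClass {p : C' ⟶ C} (hp : IsSemismallExt p) (ξ : DefSch X (str k X) C)
    (ω : H2T k X ⊗[k] ↥(RingHom.ker p.toAlgHom)) : Prop :=
  ∃ (n : ℕ) (e : Fin n → ↥(RingHom.ker p.toAlgHom)) (M : Model U p ξ) (v : Fin n → Kt (k := k) U 2)
    (hv : ∀ i, v i ∈ LinearMap.ker (dK k U (Tsh k X) 2)),
    M.HasObs (killed_ker hp e) v ∧ ω = ∑ i, clsT hU hcov 2 ⟨v i, hv i⟩ ⊗ₜ[k] e i

instance finite_ker (p : C' ⟶ C) : Module.Finite k ↥(RingHom.ker p.toAlgHom) := by
  haveI : Module.Finite k C' := H24Art.moduleFinite C'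
  exact Module.Finite.of_injective ((RingHom.ker p.toAlgHom).subtype.restrictScalars k) Subtype.val_injective

theorem coeff_eq_zero {R V J : Type u} [CommRing R] [AddCommMonoid V] [Module R V] [AddCommMonoid J] [Module R J]
    {κ : Type} [Fintype κ] (b : Module.Basis κ R J) {v : κ → V} (h : ∑ i, v i ⊗ₜ[R] b i = 0) (l : κ) :
    v l = 0 := by
  classical
  have h1 := congrArg ((TensorProduct.rid R V).toLinearMap.comp (LinearMap.lTensor V (b.coord l))) h
  simpa [Finsupp.single_apply] using h1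

/-- The chosen basis of the kernel. -/
def kerBasis (p : C' ⟶ C) :
    Module.Basis (Fin (Module.finrank k ↥(RingHom.ker p.toAlgHom))) k ↥(RingHom.ker p.toAlgHom) :=
  Module.finBasis k _

theorem kerBasis_spec (p : C' ⟶ C) :
    LinearIndependent k (fun l => (kerBasis p l : C')) ∧
      RingHom.ker p.toAlgHom ≤ Ideal.span (Set.range fun l => (kerBasis p l : C')) := by
  refine ⟨(kerBasis p).linearIndependent.map' ((RingHom.ker p.toAlgHom).subtype.restrictScalars k)
    (LinearMap.ker_eq_bot.2 Subtype.val_injective), fun z hz => ?_⟩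
  let z' : ↥(RingHom.ker p.toAlgHom) := ⟨z, hz⟩
  have h1 : (z' : C') = ∑ l, ((kerBasis p).repr z' l) • (kerBasis p l : C') := by
    conv_lhs => rw [← (kerBasis p).sum_repr z']
    exact map_sum ((RingHom.ker p.toAlgHom).subtype.restrictScalars k) _ _
  rw [show z = (z' : C') from rfl, h1]
  exact Ideal.sum_mem _ fun l _ => by
    rw [Algebra.smul_def]
    exact Ideal.mul_mem_left _ _ (Ideal.subset_span ⟨l, rfl⟩)

theorem IsObsClass.exists_basis {p : C' ⟶ C} {hp : IsSemismallExt p} {ξ : DefSch X (str k X) C}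
    {ω : H2T k X ⊗[k] ↥(RingHom.ker p.toAlgHom)} (h : IsObsClass hU hcov hp ξ ω) :
    ∃ (M : Model U p ξ) (v : Fin (Module.finrank k ↥(RingHom.ker p.toAlgHom)) → Kt (k := k) U 2)
      (hv : ∀ i, v i ∈ LinearMap.ker (dK k U (Tsh k X) 2)),
      M.HasObs (killed_ker hp (kerBasis p)) v ∧
        ω = ∑ i, clsT hU hcov 2 ⟨v i, hv i⟩ ⊗ₜ[k] kerBasis p i := by
  obtain ⟨n, e, M, v, hv, hM, rfl⟩ := h
  let c : Fin n → Fin (Module.finrank k ↥(RingHom.ker p.toAlgHom)) → k := fun i l => (kerBasis p).repr (e i) l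
  have hc : ∀ i, e i = ∑ l, c i l • kerBasis p l := fun i => ((kerBasis p).sum_repr (e i)).symm
  have hv' : ∀ l, ∑ i, c i l • v i ∈ LinearMap.ker (dK k U (Tsh k X) 2) := fun l =>
    Submodule.sum_mem _ fun i _ => Submodule.smul_mem _ _ (hv i)
  refine ⟨M, _, hv', hM.change (killed_ker hp (kerBasis p)) c (fun i => ?_), ?_⟩
  · exact (congrArg (Subtype.val) (hc i)).trans (map_sum ((RingHom.ker p.toAlgHom).subtype.restrictScalars k) _ _)
  · have h1 : ∀ l, clsT hU hcov 2 ⟨∑ i, c i l • v i, hv' l⟩ = ∑ i, c i l • clsT hU hcov 2 ⟨v i, hv i⟩ := fun l => by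
      simp only [← map_smul, ← map_sum]
      congr 1
      exact Subtype.ext (by simp)
    simp only [h1, TensorProduct.sum_tmul]
    rw [Finset.sum_comm]
    refine Finset.sum_congr rfl fun i _ => ?_
    conv_lhs => rw [hc i]
    rw [TensorProduct.tmul_sum]
    exact Finset.sum_congr rfl fun l _ => (TensorProduct.smul_tmul _ _ _).symm

variable [Smooth (str k X)]

theorem exists_isObsClass {p : C' ⟶ C} (hp : IsSemismallExt p) (ξ : DefSch X (str k X) C) :
    ∃ ω, IsObsClass hU hcov hp ξ ω := by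
  obtain ⟨hli, hspan⟩ := kerBasis_spec p
  obtain ⟨M⟩ := nonempty_model hU hp.1 (H28Def.flat_of_field (str k X)) ξ
  obtain ⟨v, hv⟩ := M.exists_hasObs hU hp.1 (killed_ker hp (kerBasis p)) hli hspan
  exact ⟨_, _, kerBasis p, M, v, fun i => hv.dK_eq_zero hU hli i, hv, rfl⟩

theorem IsObsClass.eq {p : C' ⟶ C} {hp : IsSemismallExt p} {ξ : DefSch X (str k X) C}
    {ω ω' : H2T k X ⊗[k] ↥(RingHom.ker p.toAlgHom)} (h : IsObsClass hU hcov hp ξ ω)
    (h' : IsObsClass hU hcov hp ξ ω') : ω = ω' := by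
  obtain ⟨hli, hspan⟩ := kerBasis_spec p
  obtain ⟨M, v, hv, hM, rfl⟩ := h.exists_basis
  obtain ⟨M', v', hv', hM', rfl⟩ := h'.exists_basis
  refine Finset.sum_congr rfl fun i _ => ?_
  congr 1
  obtain ⟨w, hw⟩ := hM.exists_coboundary hU hp.1 hli hspan hM' i
  rw [← sub_eq_zero, ← map_sub, clsT_eq_zero_iff_two hU hcov]
  refine ⟨-w, ?_⟩
  rw [map_neg, hw, neg_sub]
  rfl

omit [Smooth (str k X)] in
theorem IsObsClass.of_iso {p : C' ⟶ C} {hp : IsSemismallExt p} {ξ ξ' : DefSch X (str k X) C}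
    {ω : H2T k X ⊗[k] ↥(RingHom.ker p.toAlgHom)} (h : IsObsClass hU hcov hp ξ ω) (μ : Mor (𝟙 C) ξ ξ') :
    IsObsClass hU hcov hp ξ' ω := by
  obtain ⟨n, e, M, v, hv, hM, hω⟩ := h
  refine ⟨n, e, ⟨M.T, fun j => (M.φ j).comp' (Fam.ofMor μ _) (fun _ => rfl), M.g,
    fun i j W hi hj hij r => congrArg (μ.app W) (M.comm i j W hi hj hij r)⟩, v, hv, hM, hω⟩

/-- Morphism from an isomorphism. -/
def morOfIso {ξ ξ' : DefSch X (str k X) C} (e : ξ.Iso ξ') : Mor (𝟙 C) ξ ξ' where
  hom := e.iso.inv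
  hom_f := by rw [show e.iso.inv ≫ ξ.f = ξ'.f from e.symm.hom_f, specMap_id, Category.comp_id]
  i_hom := e.symm.i_hom

theorem eq_zero_iff_lifts {p : C' ⟶ C} {hp : IsSemismallExt p} {ξ : DefSch X (str k X) C}
    {ω : H2T k X ⊗[k] ↥(RingHom.ker p.toAlgHom)} (h : IsObsClass hU hcov hp ξ ω) :
    ω = 0 ↔ ∃ η : DefSch X (str k X) C', Nonempty ((η.baseChange p).Iso ξ) := by
  obtain ⟨M, v, hv, hM, hω⟩ := h.exists_basis
  constructor
  · intro h0
    have hc : ∀ l, clsT hU hcov 2 ⟨v l, hv l⟩ = 0 :=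
      fun l => coeff_eq_zero (R := k) (V := H2T k X) (J := ↥(RingHom.ker p.toAlgHom)) (kerBasis p) (hω.symm.trans h0) l
    obtain ⟨η, ⟨μ⟩⟩ := hM.exists_lift hU hcov (fun l => RingHom.mem_ker.1 (kerBasis p l).2)
      fun l => (clsT_eq_zero_iff_two hU hcov ⟨v l, hv l⟩).1 (hc l)
    exact ⟨η, ⟨Mor.baseChangeIso μ⟩⟩
  · rintro ⟨η, ⟨e⟩⟩
    let e0 := kerBasis p
    obtain ⟨M₀, h₀⟩ := exists_hasObs_zero (U := U) (Mor.ofIso e) (killed_ker hp e0)
    refine h.eq hU hcov ⟨_, e0, M₀, 0, fun i => zero_mem _, h₀, ?_⟩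
    refine (Finset.sum_eq_zero fun i _ => ?_).symm
    rw [show (⟨(0 : Fin _ → Kt (k := k) U 2) i, zero_mem _⟩ : LinearMap.ker (dK k U (Tsh k X) 2)) = 0 from rfl,
      map_zero, TensorProduct.zero_tmul]

omit [Smooth (str k X)] in
theorem IsObsClass.quot {p : C' ⟶ C} {hp : IsSemismallExt p} {ξ : DefSch X (str k X) C}
    {ω : H2T k X ⊗[k] ↥(RingHom.ker p.toAlgHom)} (h : IsObsClass hU hcov hp ξ ω) (K : Ideal C')
    (hK : K ≤ maximalIdeal C') (hKJ : K ≤ RingHom.ker p.toAlgHom) (hq : IsSemismallExt (quotFactor hK p hKJ)) :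
    IsObsClass hU hcov hq ξ
      (LinearMap.lTensor (H2T k X) ((kerToQuot hK p hKJ).restrictScalars k) ω) := by
  obtain ⟨n, e, M, v, hv, hM, rfl⟩ := h
  let π := quotMk C' K hK
  have hπ : Function.Surjective π := quotMk_surjective C' K hK
  let T'' := M.T.baseChange π
  let μ : Mor π M.T T'' := Mor.ofIso (DefSch.Iso.refl _)
  choose φ hφ using fun j => Fam.exists_desc (g := quotFactor hK p hKJ) (gh := p) (fun W hW => hW.1) hπ
    (fun _ => rfl) (Fam.ofMor μ (Af (U j))) (M.φ j)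
  choose g hg using fun i j => Fam.exists_desc (g := 𝟙 _) (gh := π) (fun W hW => hW.1) hπ (fun _ => rfl)
    (Fam.ofMor μ (Af (U i ⊓ U j))) ((M.g i j).comp' (Fam.ofMor μ _) fun _ => rfl)
  have hsur : ∀ W, IsAffineOpen W → Function.Surjective (μ.app W) := fun W hW =>
    ((Fam.ofMor μ fun _ => True).surjective_and_ker hπ trivial hW).1
  let M'' : Model U (quotFactor hK p hKJ) ξ := ⟨T'', φ, g, fun i j W hi hj hij r => by
    obtain ⟨r, rfl⟩ := hsur W hi.1 r
    rw [show (g i j).app W hij (μ.app W r) = μ.app W ((M.g i j).app W hij r) from hg i j W hij r]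
    exact (hφ i W hi _).trans ((M.comm i j W hi hj hij r).trans (hφ j W hj r).symm)⟩
  refine ⟨n, fun i => kerToQuot hK p hKJ (e i), M'', v, hv, fun a W h₀₁ h₁₂ h₀₂ hW r => ?_, ?_⟩
  · obtain ⟨r, rfl⟩ := hsur W h₀₁.1 r
    show (g _ _).app W h₀₁ ((g _ _).app W h₁₂ (μ.app W r)) = (g _ _).app W h₀₂ (μ.app W r) + _
    rw [show (g (a 1) (a 2)).app W h₁₂ (μ.app W r) = _ from hg _ _ W h₁₂ r]
    rw [show (g (a 0) (a 2)).app W h₀₂ (μ.app W r) = _ from hg _ _ W h₀₂ r]
    refine (hg _ _ W h₀₁ _).trans ?_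
    show μ.app W _ = μ.app W _ + _
    rw [hM a W h₀₁ h₁₂ h₀₂ hW r, map_add, μ.red_app]
    congr 1
    exact (Fam.ofMor μ fun _ => True).app_emb (killed_ker hp e)
      (killed_ker hq fun i => kerToQuot hK p hKJ (e i)) trivial h₀₁.1 _
  · rw [map_sum]
    rfl

include hU hcov in
/-- The obstruction theory of the deformations of a smooth separated scheme. -/
theorem hasObsTheory :
    HasObsTheory (defFunctor (Λ := k) X (str k X)) (H2T k X) := by
  classical
  choose ω hω using fun (C' C : Art k k) (p : C' ⟶ C) (hp : IsSemismallExt p)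
    (u : (defFunctor (Λ := k) X (str k X)).obj C) => exists_isObsClass hU hcov hp (Quotient.out u)
  refine ⟨⟨fun {C' C} p hp u => ω C' C p hp u, fun {C' C} p hp u => ?_, fun {C' C} p hp K hK hKJ hq u =>
    (hω _ _ _ hq u).eq hU hcov ((hω _ _ p hp u).quot hU hcov K hK hKJ hq)⟩⟩
  rw [eq_zero_iff_lifts hU hcov (hω _ _ p hp u)]
  constructor
  · rintro ⟨η, ⟨e⟩⟩
    exact ⟨η.cl, (show (η.baseChange p).cl = (Quotient.out u).cl from Quotient.sound ⟨e⟩).trans (Quotient.out_eq u)⟩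
  · rintro ⟨u', hu'⟩
    obtain ⟨η, rfl⟩ := Quotient.exists_rep u'
    exact ⟨η, Quotient.exact (hu'.trans (Quotient.out_eq u).symm)⟩

end Groth.Agent.H24SmDef
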