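import Groth.Agent.H17.OmegaLocal
import Groth.Agent.H8Props.FinLocFree.Sheaf
import Groth.Agent.H29Omega.SheafFinite

/-!
# The differentials of a smooth morphism are finite locally free
-/

set_option autoImplicit false
set_option linter.style.haveILetI false
set_option backward.isDefEq.respectTransparency.types false

universe u

open CategoryTheory CategoryTheory.Limits AlgebraicGeometry TopologicalSpace Opposite

namespace Groth.Agent.H24SmDef

theorem isFinLocFree_omega {X S : Scheme.{u}} (f : X ⟶ S) [QuasiSeparated f] [Smooth f] :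
    FlatMod.IsFinLocFree (Omega.sheaf f) := fun x => by
  obtain ⟨V, hV, U, hU, hxU, e, h⟩ := Smooth.exists_isStandardSmooth f x
  haveI : Nonempty U := ⟨⟨x, hxU⟩⟩
  have hiso := H17.OmegaLocal.isIso_toSect f hU hV e
  let E := (asIso (OmAff.toSect f V U e)).toLinearEquiv
  let α := f.appLE V U e
  algebraize [α.hom]
  haveI : Algebra.IsStandardSmooth Γ(S, V) Γ(X, U) := h
  let β' : Module.Basis (Fin (Module.finrank Γ(X, U) Ω[Γ(X, U)⁄Γ(S, V)])) Γ(X, U) Γ(Omega.sheaf f, U) :=
    (Module.finBasis _ _).map E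
  let one : Γ(X, U) := 1
  haveI := H8Props.FinLocFree.isIso_basicHom (Omega.sheaf f) (H29Omega.isQCoh_sheaf f) hU one
    (r := Module.finrank Γ(X, U) Ω[Γ(X, U)⁄Γ(S, V)]) (fun j => β' j)
    (fun y => ⟨1, one_mem _, by
      rw [one_smul, ← β'.sum_repr y]
      exact Submodule.sum_mem _ fun j _ => Submodule.smul_mem _ _ (Submodule.subset_span ⟨j, rfl⟩)⟩)
    (fun c hc j => ⟨1, one_mem _, by
      rw [_root_.one_mul]; exact Fintype.linearIndependent_iff.1 β'.linearIndependent c hc j⟩)
  refine ⟨X.basicOpen one, _, ?_, ⟨(asIso (H29Fitt.basicHom (Omega.sheaf f) one fun j => β' j)).symm⟩⟩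
  rw [Scheme.basicOpen_one]; exact hxU

end Groth.Agent.H24SmDef
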