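import Groth.Agent.H24SmDef.ObsTheory
import Groth.Agent.H24SmDef.OmegaFree
import Groth.Agent.H17.PnExt.LocFreeExt

/-!
# Lifting deformations when the second cohomology of the tangent sheaf vanishes
-/

set_option autoImplicit false
set_option linter.style.haveILetI false

universe u

open CategoryTheory CategoryTheory.Limits AlgebraicGeometry IsLocalRing ArtFun ArtFun.Art Opposite
open TopologicalSpace
open scoped TensorProduct

noncomputable section

namespace Groth.Agent.H24SmDef

open Groth.Agent.H24DefTan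

variable {k : Type u} [Field k] {X : Scheme.{u}} [X.Over (Spec (CommRingCat.of k))]

theorem isSeparated_of_str [IsSeparated (str k X)] : X.IsSeparated :=
  ⟨by rw [← terminal.comp_from (str k X)]; infer_instance⟩

variable [Smooth (str k X)] [QuasiSeparated (str k X)] [DCoh.HasSheafHom (Omega.sheaf (str k X))]

/-- Deformations lift along small extensions if `H²(T) = 0`. -/
theorem exists_lift_of_subsingleton [X.IsSeparated] {C' C : Art k k} {p : C' ⟶ C} (hp : IsSemismallExt p)
    (h2 : Subsingleton (H2T k X)) (ξ : DefSch X (str k X) C) :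
    ∃ η : DefSch X (str k X) C', Nonempty ((η.baseChange p).Iso ξ) := by
  have hcov : iSup (fun U : X.affineOpens => U.1) = ⊤ := iSup_affineOpens_eq_top X
  have hU : ∀ U : X.affineOpens, IsAffineOpen U.1 := fun U => U.2
  obtain ⟨ω, hω⟩ := exists_isObsClass hU hcov hp ξ
  refine (eq_zero_iff_lifts hU hcov hω).1 ?_
  haveI := h2
  have key : ∀ z : H2T k X ⊗[k] ↥(RingHom.ker p.toAlgHom), z = 0 := fun z => by
    induction z using TensorProduct.induction_on with
    | zero => rfl
    | tmul a b => rw [Subsingleton.elim a 0, TensorProduct.zero_tmul]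
    | add a b ha hb => rw [ha, hb, add_zero]
  exact key ω

/-- `H^n` of the tangent sheaf is `Ext^n(Ω, O)`. -/
theorem nonempty_ext_equiv [HasExt.{u} X.Modules] (n : ℕ) :
    Nonempty (Abelian.Ext.{u} (Omega.sheaf (str k X)) (Coh.structureModule X) n ≃ₗ[k]
      Coh.HH X ((DCoh.sheafHom (Omega.sheaf (str k X))).obj (Coh.structureModule X)) n) :=
  H17.PnExt.nonempty_ext_linearEquiv k (isFinLocFree_omega (str k X)) _ n

omit [Smooth (str k X)] [QuasiSeparated (str k X)] [DCoh.HasSheafHom (Omega.sheaf (str k X))] in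
/-- The isomorphism from the base change gives a cartesian square. -/
theorem isPullback_of_baseChange_iso {C' C : Art k k} {p : C' ⟶ C} {η : DefSch X (str k X) C'}
    {ξ : DefSch X (str k X) C} (e : (η.baseChange p).Iso ξ) :
    IsPullback (e.iso.inv ≫ pullback.fst η.f (specMap p)) ξ.f η.f (specMap p) :=
  (IsPullback.of_hasPullback η.f (specMap p)).of_iso e.iso (Iso.refl _) (Iso.refl _) (Iso.refl _)
    (by simp) (by rw [Iso.refl_hom, Category.comp_id]; exact e.hom_f.symm) (by simp) (by simp)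

end Groth.Agent.H24SmDef

namespace Groth.Agent.H24SmDef

open Groth.Agent.H24DefTan

/-- Lifting along `A' → A'/(t)` for raw data. -/
theorem exists_lift_raw {k : Type u} [Field k] {X : Scheme.{u}} [X.Over (Spec (CommRingCat.of k))]
    [Smooth (str k X)] [IsSeparated (str k X)] [HasExt.{u} X.Modules]
    (h2 : Subsingleton (Abelian.Ext.{u} (Omega.sheaf (str k X)) (Coh.structureModule X) 2))
    (A' : Type u) [CommRing A'] [Algebra k A'] [IsLocalRing A'] [IsArtinianRing A']
    (t : A') (ht : t ∈ IsLocalRing.maximalIdeal A') (htm : ∀ a ∈ IsLocalRing.maximalIdeal A', a * t = 0)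
    (e : (A' ⧸ Ideal.span {t}) →ₐ[k] k)
    (Y : Scheme.{u}) (f : Y ⟶ Spec (CommRingCat.of (A' ⧸ Ideal.span {t}))) (i : X ⟶ Y) (hf : Flat f)
    (hY : IsPullback i (str k X) f (Spec.map (CommRingCat.ofHom e.toRingHom))) :
    ∃ (Y' : Scheme.{u}) (f' : Y' ⟶ Spec (CommRingCat.of A')) (j : Y ⟶ Y'), Flat f' ∧
      IsPullback j f f' (Spec.map (CommRingCat.ofHom (Ideal.Quotient.mk (Ideal.span {t})))) := by
  haveI := isSeparated_of_str (k := k) (X := X)
  haveI := H10Coh.SheafHom.hasSheafHom (Omega.sheaf (str k X))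
  haveI : Nontrivial (A' ⧸ Ideal.span {t}) := Ideal.Quotient.nontrivial_iff.2 fun h => by
    have h1 : (1 : A') ∈ maximalIdeal A' :=
      (Ideal.span_singleton_le_iff_mem (maximalIdeal A')).2 ht (h ▸ Submodule.mem_top)
    exact (maximalIdeal.isMaximal A').ne_top ((Ideal.eq_top_iff_one _).2 h1)
  haveI : IsLocalRing (A' ⧸ Ideal.span {t}) :=
    IsLocalRing.of_surjective' (Ideal.Quotient.mk _) Ideal.Quotient.mk_surjective
  let C : Art k k := Art.of (A' ⧸ Ideal.span {t}) e fun c => ⟨algebraMap k _ c, e.commutes c⟩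
  let C' : Art k k := Art.of A' (e.comp (Ideal.Quotient.mkₐ k _)) fun c =>
    ⟨algebraMap k _ c, (e.comp (Ideal.Quotient.mkₐ k _)).commutes c⟩
  let p : C' ⟶ C := ⟨Ideal.Quotient.mkₐ k _, rfl⟩
  have hker : RingHom.ker p.toAlgHom = Ideal.span {t} := by
    show RingHom.ker (Ideal.Quotient.mkₐ k (Ideal.span {t})) = _
    exact Ideal.mk_ker
  have hp : IsSemismallExt p := ⟨Ideal.Quotient.mk_surjective, eq_bot_iff.2 (Ideal.mul_le.2 fun a ha b hb => by
    rw [hker] at hb
    obtain ⟨c, rfl⟩ := Ideal.mem_span_singleton'.1 hb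
    exact Ideal.mem_bot.2 ((mul_left_comm (a : A') c t).trans ((congrArg (c * ·) (htm a ha)).trans (mul_zero c))))⟩
  let ξ : DefSch X (str k X) C := ⟨Y, f, hf, i, hY⟩
  obtain ⟨ee⟩ := nonempty_ext_equiv (k := k) (X := X) 2
  have h2' : Subsingleton (H2T k X) := ee.symm.toEquiv.subsingleton
  obtain ⟨η, ⟨e'⟩⟩ := exists_lift_of_subsingleton hp h2' ξ
  exact ⟨η.total, η.f, _, η.flat, isPullback_of_baseChange_iso e'⟩

end Groth.Agent.H24SmDef
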