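import Groth.Agent.H24SmDef.Tangent
import Groth.Agent.H24SmDef.Unobstructed
import Groth.Agent.H24Art.Tangent

/-!
# Rigidity of smooth separated schemes
-/

set_option autoImplicit false
set_option linter.style.haveILetI false

universe u

open CategoryTheory CategoryTheory.Limits AlgebraicGeometry IsLocalRing ArtFun ArtFun.Art Opposite
open TopologicalSpace
open scoped TensorProduct

noncomputable section

namespace Groth.Agent.H24SmDef

open Groth.Agent.H24DefTan

attribute [local instance 10000] H10Coh.hasSheafifyAb H10Coh.hasWeakSheafifyAb H10Coh.hasExtAb H10Coh.enoughInjAb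

variable {k : Type u} [Field k] {X : Scheme.{u}} [X.Over (Spec (CommRingCat.of k))]
  [Smooth (str k X)] [QuasiSeparated (str k X)] [X.IsSeparated] [DCoh.HasSheafHom (Omega.sheaf (str k X))]

omit [QuasiSeparated (str k X)] [X.IsSeparated] [DCoh.HasSheafHom (Omega.sheaf (str k X))] in
theorem flat_str : Flat (str k X) := inferInstance

/-- If `H¹(T) = 0` every deformation is trivial. -/
theorem nonempty_iso_trivial_of_subsingleton (h1 : Subsingleton (H1T k X)) (A : Art k k)
    (ξ : DefSch X (str k X) A) : Nonempty (ξ.Iso (DefSch.trivial X (str k X) flat_str A)) := by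
  let F := defFunctor (Λ := k) X (str k X)
  let s : F.obj (base k k) := (DefSch.self X (str k X) flat_str).cl
  let t : ∀ B : Art k k, F.obj B := fun B => F.map (ofBase B) s
  suffices h : ∀ z : F.obj A, z = t A from Quotient.exact (h ξ.cl)
  refine H24Art.art_induction (fun B => ∀ z : F.obj B, z = t B) (fun B' B e he h z => ?_)
    (fun B' B p hp h z => ?_) (fun z => @Subsingleton.elim _ (H28Def.h0_defFunctor (Λ := k) (X := X)
      (x := str k X)).2 _ _) A
  · have hcomp : ofBase B ≫ e = ofBase B' := Art.hom_ext (AlgHom.ext fun c => e.toAlgHom.commutes c)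
    have hinj : Function.Injective (F.map e) := (CategoryTheory.isIso_iff_bijective (F.map e)).1 inferInstance |>.1
    refine hinj ((h _).trans ?_)
    show F.map (ofBase B') s = F.map e (F.map (ofBase B) s)
    rw [← hcomp]
    exact congr($(F.map_comp _ _) s)
  · obtain ⟨ξ, rfl⟩ := Quotient.exists_rep z
    have hcomp : ofBase B ≫ p = ofBase B' := Art.hom_ext (AlgHom.ext fun c => p.toAlgHom.commutes c)
    let T := DefSch.trivial X (str k X) flat_str B
    let T' := DefSch.trivial X (str k X) flat_str B'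
    have hT : F.map p ξ.cl = T'.cl := h _
    obtain ⟨e₁⟩ := Quotient.exact hT
    have hT2 : F.map p T.cl = T'.cl := by
      show F.map p (F.map (ofBase B) s) = F.map (ofBase B') s
      rw [← hcomp]
      exact (congr($(F.map_comp _ _) s)).symm
    obtain ⟨e₂⟩ := Quotient.exact hT2
    have hU : ∀ U : X.affineOpens, IsAffineOpen U.1 := fun U => U.2
    have hcov : iSup (fun U : X.affineOpens => U.1) = ⊤ := iSup_affineOpens_eq_top X
    let E : Extn p T' := ⟨ξ, Mor.ofIso e₁⟩
    let E' : Extn p T' := ⟨T, Mor.ofIso e₂⟩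
    obtain ⟨ω, hω⟩ := exists_isTorClass hU hcov hp.isSemismallExt E E
    obtain ⟨ω', hω'⟩ := exists_isTorClass hU hcov hp.isSemismallExt E E'
    have key : ∀ v : H1T k X ⊗[k] ↥(RingHom.ker p.toAlgHom), v = 0 := fun v => by
      induction v using TensorProduct.induction_on with
      | zero => rfl
      | tmul a b => rw [Subsingleton.elim a 0, TensorProduct.zero_tmul]
      | add a b ha hb => rw [ha, hb, add_zero]
    obtain ⟨θ, -⟩ := hω.equiv hU hcov hp.isSemismallExt ((key ω).trans (key ω').symm ▸ hω')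
    exact (Quotient.sound ⟨(Mor.toIso θ).symm⟩ : (ξ.cl : F.obj B) = T.cl)

/-- If every first order deformation is trivial then `H¹(T) = 0`. -/
theorem subsingleton_of_trivial (h : ∀ ξ : DefSch X (str k X) (dual k k),
    Nonempty (ξ.Iso (DefSch.trivial X (str k X) flat_str (dual k k)))) : Subsingleton (H1T k X) := by
  obtain ⟨T⟩ := H24Art.nonempty_tangentStr (F := defFunctor (Λ := k) X (str k X))
    (H28Def.h0_defFunctor (Λ := k) (X := X) (x := str k X))
    (H28Def.heps_defFunctor (Λ := k) (X := X) (x := str k X))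
  obtain ⟨e⟩ := nonempty_tangentEquiv (k := k) (V := fun U : X.affineOpens => U.1) (fun U => U.2)
    (iSup_affineOpens_eq_top X)
  haveI : Subsingleton (TangentSpace (defFunctor (Λ := k) X (str k X))) := ⟨fun a b => by
    obtain ⟨ξ, rfl⟩ := Quotient.exists_rep a
    obtain ⟨η, rfl⟩ := Quotient.exists_rep b
    exact (Quotient.sound (h ξ)).trans (Quotient.sound (h η)).symm⟩
  exact e.symm.toEquiv.subsingleton

omit [DCoh.HasSheafHom (Omega.sheaf (str k X))] in
/-- Rigid means `Ext¹(Ω, O) = 0`. -/
theorem rigid_iff [HasExt.{u} X.Modules] :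
    (∀ (A : Type u) [CommRing A] [Algebra k A] [IsLocalRing A] [IsArtinianRing A] (e : A →ₐ[k] k)
        (Y : Scheme.{u}) (f : Y ⟶ Spec (CommRingCat.of A)) (i : X ⟶ Y), Flat f →
        IsPullback i (str k X) f (Spec.map (CommRingCat.ofHom e.toRingHom)) →
        ∃ φ : Y ≅ pullback (str k X) (Spec.map (CommRingCat.ofHom (algebraMap k A))),
          φ.hom ≫ pullback.snd _ _ = f ∧ i ≫ φ.hom ≫ pullback.fst _ _ = 𝟙 X) ↔
    Subsingleton (Abelian.Ext.{u} (Omega.sheaf (str k X)) (Coh.structureModule X) 1) := by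
  haveI := H10Coh.SheafHom.hasSheafHom (Omega.sheaf (str k X))
  obtain ⟨ee⟩ := nonempty_ext_equiv (k := k) (X := X) 1
  constructor
  · intro h
    refine @Equiv.subsingleton _ _ ee.toEquiv (subsingleton_of_trivial fun ξ => ?_)
    obtain ⟨φ, hφ₁, hφ₂⟩ := h (dual k k : Art k k) (dual k k : Art k k).res ξ.total ξ.f ξ.i ξ.flat ξ.isPullback
    exact ⟨⟨φ, hφ₁, pullback.hom_ext
      ((Category.assoc _ _ _).trans (hφ₂.trans (DefSch.baseChange_i_fst (DefSch.self X (str k X) flat_str) (ofBase (dual k k))).symm))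
      (((Category.assoc _ _ _).trans (congrArg (ξ.i ≫ ·) hφ₁)).trans
        (ξ.i_f.trans (DefSch.baseChange_i_f _ _).symm))⟩⟩
  · intro h A _ _ _ _ e Y f i hf hY
    let C : Art k k := Art.of A e fun c => ⟨algebraMap k _ c, e.commutes c⟩
    obtain ⟨φ⟩ := nonempty_iso_trivial_of_subsingleton ee.symm.toEquiv.subsingleton C ⟨Y, f, hf, i, hY⟩
    refine ⟨φ.iso, φ.hom_f, ?_⟩
    refine (Category.assoc _ _ _).symm.trans ?_
    exact (congrArg (· ≫ pullback.fst _ _) φ.i_hom).trans (DefSch.baseChange_i_fst (DefSch.self X (str k X) flat_str) (ofBase C))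

end Groth.Agent.H24SmDef
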