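import Groth.Agent.H24SmDef.Extensions

/-!
# The tangent space of the deformations of a smooth separated scheme
-/

set_option autoImplicit false
set_option linter.style.haveILetI false

universe u

open CategoryTheory CategoryTheory.Limits AlgebraicGeometry IsLocalRing ArtFun ArtFun.Art Opposite
open TopologicalSpace

noncomputable section

namespace Groth.Agent.H24SmDef

open Groth.Agent.H24DefTan Groth.Agent.H15Site Groth.Agent.LeadBC
open Groth.Agent.H24Def (dEps)

attribute [local instance 10000] H10Coh.hasSheafifyAb H10Coh.hasWeakSheafifyAb H10Coh.hasExtAb H10Coh.enoughInjAb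

variable {k : Type u} [Field k] {X : Scheme.{u}} [X.Over (Spec (CommRingCat.of k))]

omit [X.Over (Spec (CommRingCat.of k))] in
theorem killed_eps : Killed (fun _ : Fin 1 => (dEps k : (dual k k : Art k k))) where
  mem _ := by rw [Art.mem_maximalIdeal_iff, H24Def.res_dEps]
  mul _ a ha := by
    rw [Art.mem_maximalIdeal_iff] at ha
    exact (H24DefAut.mul_eps_eq_zero_iff (a : DualNumber k)).2 ha

theorem emb_eps_eq (ξ : DefSch X (str k X) (dual k k)) {W : X.Opens} (hW : IsAffineOpen W) (a : Fin 1 → Γ(X, W)) :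
    emb ξ killed_eps hW a = H24DefTan.emb ξ hW (a 0) := by
  obtain ⟨r, hr⟩ := red_surjective ξ hW (a 0)
  rw [emb_eq ξ killed_eps hW (fun _ => r) a (fun i => by rw [hr, Subsingleton.elim i 0]),
    ← hr, emb_red]
  exact Fin.sum_univ_one _

/-- The trivial deformation is the zero of the tangent space. -/
theorem trivial_cl_eq_zero [TangentStr (defFunctor (Λ := k) X (str k X))] (hx : Flat (str k X)) :
    TangentSpace.mk (F := defFunctor (Λ := k) X (str k X)) (DefSch.trivial X (str k X) hx (dual k k)).cl = 0 := by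
  let F := defFunctor (Λ := k) X (str k X)
  let z : F.obj (dual k k) := (DefSch.trivial X (str k X) hx (dual k k)).cl
  have hb : ofBase (dual k k : Art k k) = baseToDual := Art.hom_ext (AlgHom.ext fun _ => rfl)
  rw [← zero_smul k (TangentSpace.mk (F := F) z)]
  refine Eq.symm ((TangentStr.smul_eq (0 : k) z).trans ?_)
  rw [H24Art.scale_zero]
  refine (congr($(F.map_comp _ _) z)).trans ?_
  show F.map baseToDual (F.map (toBase (dual k k)) z) = F.map (ofBase (dual k k)) (DefSch.self X (str k X) hx).cl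
  rw [hb]
  exact congrArg (F.map (baseToDual : base k k ⟶ dual k k))
    (@Subsingleton.elim _ (H28Def.h0_defFunctor (Λ := k) (X := X) (x := str k X)).2 _ _)

variable {ι : Type u} {U : ι → X.Opens}

/-- A deformation isomorphic to the trivial one has a global family of retractions. -/
theorem exists_global_lift (hU : ∀ j, IsAffineOpen (U j)) {A : Art k k} (hx : Flat (str k X)) (ξ : DefSch X (str k X) A)
    (e : (DefSch.trivial X (str k X) hx A).Iso ξ) :
    ∃ γ : ∀ W, IsAffineOpen W → Γ(X, W) →+* S ξ ((𝟙 X) ⁻¹ᵁ W),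
      IsLF (str k X) (𝟙 X) ξ (fun W => IsAffineOpen W) γ := by
  let ξ₀ : DefSch X (str k X) (base k k : Art k k) := DefSch.self X (str k X) hx
  have hinj : ∀ W, IsAffineOpen W → Function.Injective (red ξ₀ W) := fun W hW => by
    refine (injective_iff_map_eq_zero _).2 fun r hr => ?_
    rw [red_eq_zero_iff _ hW] at hr
    have hm : maximalIdeal (base k k : Art k k) = ⊥ := by
      ext a
      rw [Art.mem_maximalIdeal_iff, Ideal.mem_bot]
      exact Iff.rfl
    rw [hm, Ideal.map_bot, Ideal.mem_bot] at hr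
    exact hr
  let β : ∀ W, IsAffineOpen W → Γ(X, W) →+* S ξ₀ ((𝟙 X) ⁻¹ᵁ W) := fun W hW =>
    (RingEquiv.ofBijective (red ξ₀ W) ⟨hinj W hW, red_surjective ξ₀ hW⟩).symm.toRingHom
  have hred : ∀ W (hW : IsAffineOpen W) r, red ξ₀ W (β W hW r) = r := fun W hW r =>
    RingEquiv.apply_symm_apply (RingEquiv.ofBijective (red ξ₀ W) ⟨hinj W hW, red_surjective ξ₀ hW⟩) r
  have hβ : IsLF (str k X) (𝟙 X) ξ₀ (fun W => IsAffineOpen W) β := by
    refine ⟨fun W W' hW hW' h r => hinj W' hW' ?_, fun W hW r => ?_, fun W hW a => hinj W hW ?_⟩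
    · refine (hred W' hW' _).trans ?_
      exact ((red_rs ξ₀ h _).trans (congrArg (r0 h) (hred W hW r))).symm
    · exact (hred W hW r).trans rfl
    · exact (hred W hW _).trans (red_sc ξ₀ W _).symm
  exact ⟨_, hβ.map (Mor.ofIso e)⟩

variable [QuasiSeparated (str k X)]

/-- A cocycle of vector fields glues to a deformation of first order. -/
theorem exists_glued_cocycle {A : Art k k} {n : ℕ} {b : Fin n → A} (hb : Killed b) (T : DefSch X (str k X) A)
    [X.IsSeparated] (hU : ∀ j, IsAffineOpen (U j)) (hcov : iSup U = ⊤)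
    (c : Fin n → Kt (k := k) U 1) (hc : ∀ l, dK k U (Tsh k X) 1 (c l) = 0) :
    ∃ (η : DefSch X (str k X) A) (ψ : ∀ j, Fam (𝟙 A) η T (Af (U j))),
      ∀ (a : Fin 2 → ι) (W : X.Opens) (h₀ : Af (U (a 0)) W) (h₁ : Af (U (a 1)) W) (hW : W ≤ CechTop.cap U a)
        (r : S η W), (ψ (a 0)).app W h₀ r =
          (ψ (a 1)).app W h₁ r + emb T hb h₀.1 (fun l => tv (c l a) W hW (red η W r)) := by
  let g : ∀ i j, Fam (𝟙 A) T T (Af (U i ⊓ U j)) := fun i j =>
    (Fam.id T _).add hb (fun _ hW => hW.1) (P := CechTop.cap U ![i, j])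
      (fun W hW => hW.2.trans (le_cap_two (a := ![i, j]) inf_le_left inf_le_right)) (fun l => c l ![i, j])
  have hcoc : ∀ i j l W (hij : Af (U i ⊓ U j) W) (hjl : Af (U j ⊓ U l) W) (hil : Af (U i ⊓ U l) W)
      (r : S T W), (g i l).app W hil r = (g i j).app W hij ((g j l).app W hjl r) := by
    intro i j l W hij hjl hil r
    let a : Fin 3 → ι := ![i, j, l]
    have hi : W ≤ U i := hij.2.trans inf_le_left
    have hj : W ≤ U j := hij.2.trans inf_le_right
    have hl : W ≤ U l := hil.2.trans inf_le_right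
    have hW : W ≤ CechTop.cap U a := le_cap_three hi hj hl
    have hsum : (fun m => tv (c m ![i, l]) W (le_cap_two hi hl) (red T W r)) =
        (fun m => tv (c m ![j, l]) W (le_cap_two hj hl) (red T W r)) +
          fun m => tv (c m ![i, j]) W (le_cap_two hi hj) (red T W r) := funext fun m => by
      have h0 : tv (dK k U (Tsh k X) 1 (c m) a) W hW (red T W r) = 0 := by
        rw [hc m]; exact tv_zero W hW _
      rw [dK_apply, Fin.sum_univ_three] at h0
      simp only [Fin.val_zero, pow_zero, one_smul, Fin.val_one, pow_one, neg_smul, Fin.val_two, neg_one_sq] at h0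
      rw [tv_add, tv_add, tv_neg, tv_resL, tv_resL, tv_resL] at h0
      have eq' : ∀ (d d' : Fin 2 → ι) (_ : d = d') (q : W ≤ CechTop.cap U d) (q' : W ≤ CechTop.cap U d')
          (z : Γ(X, W)), tv (c m d) W q z = tv (c m d') W q' z := by rintro d _ rfl q q' z; rfl
      rw [eq' (a ∘ (0 : Fin 3).succAbove) ![j, l] (funext fun q => by fin_cases q <;> rfl) _ (le_cap_two hj hl),
        eq' (a ∘ (1 : Fin 3).succAbove) ![i, l] (funext fun q => by fin_cases q <;> rfl) _ (le_cap_two hi hl),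
        eq' (a ∘ (2 : Fin 3).succAbove) ![i, j] (funext fun q => by fin_cases q <;> rfl) _ (le_cap_two hi hj)] at h0
      rw [Pi.add_apply]
      linear_combination -h0
    show r + emb T hb _ (fun m => tv (c m ![i, l]) W _ (red T W r)) = (g j l).app W hjl r +
      emb T hb _ (fun m => tv (c m ![i, j]) W _ (red T W ((g j l).app W hjl r)))
    rw [Fam.red_app, hsum, map_add]
    show _ = r + emb T hb _ (fun m => tv (c m ![j, l]) W _ (red T W r)) + _
    ring
  obtain ⟨η, ψ, hψ⟩ := exists_glued T g hcoc hU hcov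
  refine ⟨η, ψ, fun a W h₀ h₁ hW r => ?_⟩
  have eq' : ∀ (l) (d d' : Fin 2 → ι) (_ : d = d') (q : W ≤ CechTop.cap U d) (q' : W ≤ CechTop.cap U d')
      (z : Γ(X, W)), tv (c l d) W q z = tv (c l d') W q' z := by rintro l d _ rfl q q' z; rfl
  rw [hψ (a 0) (a 1) W h₀ h₁ ⟨h₀.1, le_inf h₀.2 h₁.2⟩]
  show (ψ (a 1)).app W h₁ r + emb T hb _ _ = _
  congr 2
  funext l
  rw [Fam.red_app, eq' l ![a 0, a 1] a (funext fun q => by fin_cases q <;> rfl) _ hW]

variable (V : ι → X.Opens)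

/-- Every cocycle occurs. -/
theorem exists_rel [X.IsSeparated] (hV : ∀ j, IsAffineOpen (V j)) (hcov : iSup V = ⊤) (hx : Flat (str k X))
    (v : C1 (str k X) (𝟙 X) V) (hv : dK k (cov (𝟙 X) V) (G (str k X) (𝟙 X)) 1 v = 0) :
    ∃ t, Rel (str k X) (𝟙 X) V t v := by
  let T := DefSch.trivial X (str k X) hx (dual k k)
  obtain ⟨γ, hγ⟩ := exists_global_lift hV hx T (DefSch.Iso.refl _)
  obtain ⟨η, ψ, hψ⟩ := exists_glued_cocycle (U := cov (𝟙 X) V) killed_eps T (fun j => hV j) hcov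
    (fun _ => v) (fun _ => hv)
  let β : ∀ j W, Bp V j W → Γ(X, W) →+* S η ((𝟙 X) ⁻¹ᵁ W) := fun j W hW =>
    (((ψ j).symm fun _ h => h.1).app W ⟨hW.1, hW.2⟩).comp (γ W hW.1)
  refine ⟨η.cl, η, β, rfl, fun j => ⟨fun W W' hW hW' h r => ?_, fun W hW r => ?_, fun W hW a => ?_⟩,
    fun a W h₀ h₁ r => ?_⟩
  · show ((ψ j).symm fun _ h => h.1).app W' _ (γ W' hW'.1 _) = _
    rw [hγ.res W W' hW.1 hW'.1 h r]
    exact ((ψ j).symm fun _ h => h.1).app_rs W W' ⟨hW.1, hW.2⟩ ⟨hW'.1, hW'.2⟩ h _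
  · exact (((ψ j).symm fun _ h => h.1).red_app W ⟨hW.1, hW.2⟩ _).trans (hγ.red_eq W hW.1 r)
  · show ((ψ j).symm fun _ h => h.1).app W _ (γ W hW.1 _) = _
    rw [hγ.base W hW.1 a]
    exact ((ψ j).symm fun _ h => h.1).app_sc W ⟨hW.1, hW.2⟩ _
  · have g₀ : Af (cov (𝟙 X) V (a 0)) W := ⟨h₀.1, h₀.2⟩
    have g₁ : Af (cov (𝟙 X) V (a 1)) W := ⟨h₁.1, h₁.2⟩
    refine ((ψ (a 0)).bijective_app g₀ h₀.1).1 ?_
    have d := hψ a W g₀ g₁ (preimage_le_cap (𝟙 X) V h₀ h₁) (β (a 1) W h₁ r)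
    rw [emb_eps_eq] at d
    have hβ1 : (ψ (a 1)).app W g₁ (β (a 1) W h₁ r) = γ W h₁.1 r :=
      (ψ (a 1)).app_symm_app (fun _ h => h.1) W g₁ _
    have hβ0 : (ψ (a 0)).app W g₀ (β (a 0) W h₀ r) = γ W h₁.1 r :=
      (ψ (a 0)).app_symm_app (fun _ h => h.1) W g₀ _
    have hr : red η W (β (a 1) W h₁ r) = r :=
      (((ψ (a 1)).symm fun _ h => h.1).red_app W g₁ _).trans (hγ.red_eq W h₁.1 r)
    rw [hβ1, hr] at d
    refine d.trans ?_
    rw [← hβ0]
    show _ = (ψ (a 0)).app W g₀ ((show S η W from β (a 0) W h₀ r) +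
      H24DefTan.emb η g₀.1 (cval (str k X) (𝟙 X) (v a) W (preimage_le_cap (𝟙 X) V h₀ h₁) r))
    rw [map_add]
    congr 1
    obtain ⟨z, hz⟩ := red_surjective η g₀.1 (tv (v a) W (preimage_le_cap (𝟙 X) V h₀ h₁) r)
    show H24DefTan.emb T g₀.1 (tv (v a) W (preimage_le_cap (𝟙 X) V h₀ h₁) r) =
      (ψ (a 0)).app W g₀ (H24DefTan.emb η g₀.1 (tv (v a) W (preimage_le_cap (𝟙 X) V h₀ h₁) r))
    rw [← hz, emb_red, ← (ψ (a 0)).red_app W g₀ z, emb_red, map_mul, Fam.app_sc]
    rfl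

variable {V}

/-- Without differences the class is trivial. -/
theorem eq_zero_of_rel_zero [X.IsSeparated] [TangentStr (defFunctor (Λ := k) X (str k X))]
    (hV : ∀ j, IsAffineOpen (V j)) (hcov : iSup V = ⊤) (hx : Flat (str k X))
    {t : TangentSpace (defFunctor (Λ := k) X (str k X))} (h : Rel (str k X) (𝟙 X) V t 0) : t = 0 := by
  obtain ⟨ξ, β, rfl, hlf, hd⟩ := h
  have hB : ∀ j, Bp V j (V j) := fun j => ⟨hV j, le_rfl⟩
  have hI : ∀ j l, Bp V j (V j ⊓ V l) := fun j l => ⟨(hV j).inf (hV l), inf_le_left⟩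
  have hI' : ∀ j l, Bp V l (V j ⊓ V l) := fun j l => ⟨(hV j).inf (hV l), inf_le_right⟩
  refine Eq.trans ?_ (trivial_cl_eq_zero hx)
  refine cl_eq_of_retraction hV hcov ξ (fun j => β j (V j) (hB j)) (fun j l => β j (V j ⊓ V l) (hI j l))
    (fun j l r => (hlf j).res _ _ (hB j) (hI j l) inf_le_left r) (fun j l r => ?_)
    (fun j r => (hlf j).red_eq _ (hB j) r) (fun j a => (hlf j).base _ (hB j) a)
  have e := hd ![j, l] (V j ⊓ V l) (hI j l) (hI' j l) (r0 inf_le_right r)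
  rw [show (0 : C1 (str k X) (𝟙 X) V) ![j, l] = 0 from rfl, cval_zero, map_zero, add_zero] at e
  exact e.symm.trans ((hlf l).res _ _ (hB l) (hI' j l) inf_le_right r)

/-- Differences of the trivial class are coboundaries. -/
theorem exists_coboundary_of_rel_zero [X.IsSeparated] [TangentStr (defFunctor (Λ := k) X (str k X))]
    (hV : ∀ j, IsAffineOpen (V j)) (hx : Flat (str k X)) {v : C1 (str k X) (𝟙 X) V}
    (h : Rel (str k X) (𝟙 X) V (0 : TangentSpace (defFunctor (Λ := k) X (str k X))) v) :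
    ∃ u, dK k (cov (𝟙 X) V) (G (str k X) (𝟙 X)) 0 u = v := by
  obtain ⟨ξ, β, hξ, hlf, hd⟩ := h
  obtain ⟨e⟩ := Quotient.exact (((trivial_cl_eq_zero hx).trans hξ.symm :
    (DefSch.trivial X (str k X) hx (dual k k)).cl = ξ.cl))
  obtain ⟨γ, hγ⟩ := exists_global_lift hV hx ξ e
  choose s hs using fun j => exists_diff (Bp := Bp V j) (hV j) (fun W h => h.1) ⟨hV j, le_rfl⟩ (fun W h => h.2)
    (hγ.mono fun W h => h.1) (hlf j)
  let u : Kp k (cov (𝟙 X) V) (G (str k X) (𝟙 X)) 0 := fun b =>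
    resL k (G (str k X) (𝟙 X)) (iInf_le _ 0) (show LeadBC.sec k (G (str k X) (𝟙 X)) (cov (𝟙 X) V (b 0)) from s (b 0))
  refine ⟨u, ?_⟩
  funext a
  have hW : IsAffineOpen (CechTop.cap V a) := isAffineOpen_capU V hV a
  have hB : ∀ i, Bp V (a i) (CechTop.cap V a) := fun i => ⟨hW, iInf_le _ i⟩
  refine val_ext' hV a fun r => H24DefTan.emb_injective ξ (hW.preimage (𝟙 X)) ?_
  show H24DefTan.emb ξ _ (cval _ _ (dK k _ _ 0 u a) _ _ r) = H24DefTan.emb ξ _ (cval _ _ (v a) _ _ r)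
  have d := hd a _ (hB 0) (hB 1) r
  rw [hs (a 0) _ (hB 0), hs (a 1) _ (hB 1)] at d
  rw [dK_apply, Fin.sum_univ_two]
  simp only [Fin.val_zero, pow_zero, one_smul, Fin.val_one, pow_one, neg_smul]
  rw [cval_add, cval_neg, cval_resL, cval_resL, cval_resL, cval_resL, map_add, map_neg]
  have d' : H24DefTan.emb ξ (hW.preimage (𝟙 X)) (cval (str k X) (𝟙 X) (s (a 1)) _ (preimage_le_cov (𝟙 X) V (hB 1)) r) =
      H24DefTan.emb ξ (hW.preimage (𝟙 X)) (cval (str k X) (𝟙 X) (s (a 0)) _ (preimage_le_cov (𝟙 X) V (hB 0)) r) +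
      H24DefTan.emb ξ (hW.preimage (𝟙 X)) (cval (str k X) (𝟙 X) (v a) _ (preimage_le_cap (𝟙 X) V (hB 0) (hB 1)) r) := by
    exact add_left_cancel (d.trans (add_assoc _ _ _))
  show H24DefTan.emb ξ _ (cval (str k X) (𝟙 X) (s (a 1)) _ _ r) +
    -H24DefTan.emb ξ _ (cval (str k X) (𝟙 X) (s (a 0)) _ _ r) = _
  linear_combination d'

/-- A linear bijection from a compatible relation. -/
theorem nonempty_equiv_of_rel {R F Z H : Type*} [CommRing R] [AddCommGroup F] [Module R F] [AddCommGroup Z]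
    [Module R Z] [AddCommGroup H] [Module R H] (Φ : Z →ₗ[R] H) (P : F → Z → Prop) (htot : ∀ t, ∃ z, P t z)
    (hadd : ∀ t t' z z', P t z → P t' z' → P (t + t') (z + z')) (hsmul : ∀ (a : R) t z, P t z → P (a • t) (a • z))
    (h0 : ∀ z, P 0 z → Φ z = 0) (hinj : ∀ t z, P t z → Φ z = 0 → t = 0) (hex : ∀ z, ∃ t, P t z)
    (hΦ : Function.Surjective Φ) : Nonempty (F ≃ₗ[R] H) := by
  choose v hv using htot
  have hL : ∀ t z, P t z → Φ (v t) = Φ z := fun t z h => by
    have h2 := hadd _ _ _ _ (hv t) (hsmul (-1) _ _ h)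
    rw [neg_one_smul, neg_one_smul, add_neg_cancel] at h2
    have h3 := h0 _ h2
    rwa [map_add, map_neg, add_neg_eq_zero] at h3
  refine ⟨LinearEquiv.ofBijective
    { toFun := fun t => Φ (v t)
      map_add' := fun t t' => (hL _ _ (hadd _ _ _ _ (hv t) (hv t'))).trans (map_add Φ _ _)
      map_smul' := fun a t => (hL _ _ (hsmul a _ _ (hv t))).trans (map_smul Φ _ _) } ⟨?_, fun y => ?_⟩⟩
  · exact (injective_iff_map_eq_zero _).2 fun t ht => hinj t (v t) (hv t) ht
  · obtain ⟨z, rfl⟩ := hΦ y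
    obtain ⟨t, ht⟩ := hex z
    exact ⟨t, hL t z ht⟩

variable [Smooth (str k X)] [LocallyOfFiniteType (str k X)] [DCoh.HasSheafHom (Omega.sheaf (str k X))]

/-- The tangent space is `H¹(T)`. -/
theorem nonempty_tangentEquiv [X.IsSeparated] [TangentStr (defFunctor (Λ := k) X (str k X))]
    (hV : ∀ j, IsAffineOpen (V j)) (hcov : iSup V = ⊤) :
    Nonempty (TangentSpace (defFunctor (Λ := k) X (str k X)) ≃ₗ[k] H1T k X) := by
  have hx : Flat (str k X) := inferInstance
  have hc : (𝟙 X) ≫ str k X = str k X := Category.id_comp _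
  refine nonempty_equiv_of_rel (clsT (U := cov (𝟙 X) V) (fun j => hV j) hcov 1)
    (fun t z => Rel (str k X) (𝟙 X) V t z.1) (fun t => ?_) (fun t t' z z' h h' => rel_add h h')
    (fun a t z h => rel_smul a h) (fun z h => ?_) (fun t z h hz => ?_)
    (fun z => exists_rel V hV hcov hx z.1 z.2) (clsT_surjective _ _ 1)
  · obtain ⟨v, hv⟩ := rel_total (V := V) (q := str k X) (c := 𝟙 X) hV hc t
    exact ⟨⟨v, dK_eq_zero hV hv⟩, hv⟩
  · exact (clsT_eq_zero_iff_one (U := cov (𝟙 X) V) (fun j => hV j) hcov z).2 (exists_coboundary_of_rel_zero hV hx h)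
  · obtain ⟨u, hu⟩ := (clsT_eq_zero_iff_one (U := cov (𝟙 X) V) (fun j => hV j) hcov z).1 hz
    have h0 := rel_add_coboundary h (-u)
    rw [map_neg] at h0
    have hu' : dK k (cov (𝟙 X) V) (G (str k X) (𝟙 X)) 0 u = z.1 := hu
    rw [hu', add_neg_cancel] at h0
    exact eq_zero_of_rel_zero hV hcov hx h0

end Groth.Agent.H24SmDef
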