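import Groth.Agent.H24SmDef.Lift
import Groth.Agent.H24SmDef.Emb
import Groth.Agent.H24DefTan.Obs

/-!
# Families differing by vector fields
-/

set_option autoImplicit false
set_option linter.style.haveILetI false

universe u

open CategoryTheory CategoryTheory.Limits AlgebraicGeometry IsLocalRing ArtFun ArtFun.Art Opposite
open TopologicalSpace

noncomputable section

namespace Groth.Agent.H24SmDef

open Groth.Agent.H24DefTan

variable {k : Type u} [Field k] {X : Scheme.{u}} [X.Over (Spec (CommRingCat.of k))]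
variable {A B : Art k k} {n : ℕ}

/-- The sheaf of vector fields. -/
abbrev Tsh (k : Type u) [Field k] (X : Scheme.{u}) [X.Over (Spec (CommRingCat.of k))] : X.Modules :=
  G (str k X) (𝟙 X)

/-- Vector fields over an open. -/
abbrev V1 (k : Type u) [Field k] (X : Scheme.{u}) [X.Over (Spec (CommRingCat.of k))] (P : X.Opens) : Type u :=
  LeadBC.sec k (Tsh k X) P

variable [QuasiSeparated (str k X)]

/-- The derivation given by a vector field. -/
def tv {P : X.Opens} (s : V1 k X P) (W : X.Opens) (h : W ≤ P) : Γ(X, W) →+ Γ(X, W) :=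
  cval (str k X) (𝟙 X) s W h

theorem tv_add {P : X.Opens} (s t : V1 k X P) (W : X.Opens) (h : W ≤ P) (r : Γ(X, W)) :
    tv (s + t) W h r = tv s W h r + tv t W h r := cval_add s t W h r

theorem tv_neg {P : X.Opens} (s : V1 k X P) (W : X.Opens) (h : W ≤ P) (r : Γ(X, W)) :
    tv (-s) W h r = -tv s W h r := cval_neg s W h r

theorem tv_zero {P : X.Opens} (W : X.Opens) (h : W ≤ P) (r : Γ(X, W)) :
    tv (0 : V1 k X P) W h r = 0 := cval_zero (q := str k X) (c := 𝟙 X) W h r

theorem tv_sub {P : X.Opens} (s t : V1 k X P) (W : X.Opens) (h : W ≤ P) (r : Γ(X, W)) :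
    tv (s - t) W h r = tv s W h r - tv t W h r := by
  rw [sub_eq_add_neg, tv_add, tv_neg, sub_eq_add_neg]

theorem tv_smul {P : X.Opens} (a : k) (s : V1 k X P) (W : X.Opens) (h : W ≤ P) (r : Γ(X, W)) :
    tv (a • s) W h r = H24Def.scalar (str k X) W a * tv s W h r := cval_smul a s W h r

theorem tv_resL {P P' : X.Opens} (e : P' ≤ P) (s : V1 k X P) (W : X.Opens) (h : W ≤ P') (r : Γ(X, W)) :
    tv (LeadBC.resL k (Tsh k X) e s) W h r = tv s W (h.trans e) r := cval_resL e s W h r

theorem tv_mul {P : X.Opens} (s : V1 k X P) (W : X.Opens) (h : W ≤ P) (a b : Γ(X, W)) :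
    tv s W h (a * b) = a * tv s W h b + b * tv s W h a :=
  val_mul (q := str k X) (c := 𝟙 X) s W h a b

theorem tv_scalar {P : X.Opens} (s : V1 k X P) (W : X.Opens) (h : W ≤ P) (a : k) :
    tv s W h (H24Def.scalar (str k X) W a) = 0 :=
  val_scalar (q := str k X) (c := 𝟙 X) s W h a

theorem tv_res {P : X.Opens} (s : V1 k X P) {W W' : X.Opens} (e : W' ≤ W) (h : W ≤ P) (r : Γ(X, W)) :
    tv s W' (e.trans h) (r0 e r) = r0 e (tv s W h r) :=
  (val_res (q := str k X) (c := 𝟙 X) s e h r)

theorem tv_ext {W : X.Opens} (hW : IsAffineOpen W) {s t : V1 k X W}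
    (h : ∀ r, tv s W le_rfl r = tv t W le_rfl r) : s = t :=
  val_ext (q := str k X) (c := 𝟙 X) (W := W) hW h

theorem exists_tv {W : X.Opens} (hW : IsAffineOpen W) (D : Γ(X, W) →+ Γ(X, W))
    (hmul : ∀ a b, D (a * b) = a * D b + b * D a) (hbase : ∀ a, D (H24Def.scalar (str k X) W a) = 0) :
    ∃ s : V1 k X W, ∀ r, tv s W le_rfl r = D r :=
  exists_val (q := str k X) (c := 𝟙 X) (W := W) hW D hmul hbase

namespace Fam

variable {g : A ⟶ B} {η : DefSch X (str k X) A} {ξ : DefSch X (str k X) B} {Bp : X.Opens → Prop}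
  {b : Fin n → B} (hb : Killed b) (haff : ∀ W, Bp W → IsAffineOpen W) {P : X.Opens} (hP : ∀ W, Bp W → W ≤ P)

/-- A family changed by vector fields. -/
def add (φ : Fam g η ξ Bp) (s : Fin n → V1 k X P) : Fam g η ξ Bp :=
  let d := fun W (hW : Bp W) r => emb ξ hb (haff W hW) (fun i => tv (s i) W (hP W hW) (red η W r))
  have hadd : ∀ W hW a c, d W hW (a + c) = d W hW a + d W hW c := fun W hW a c => by
    simp only [d, map_add]
    exact map_add (emb ξ hb (haff W hW)) _ _
  have hmul : ∀ W hW a c, d W hW (a * c) = φ.app W hW a * d W hW c + φ.app W hW c * d W hW a := fun W hW a c => by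
    simp only [d, mul_emb, φ.red_app, map_mul, tv_mul]
    exact map_add (emb ξ hb (haff W hW)) _ _
  have hzero : ∀ W hW r, (∃ c, red η W r = H24Def.scalar (str k X) W c) → d W hW r = 0 := fun W hW r hr => by
    obtain ⟨c, hc⟩ := hr
    simp only [d, hc, tv_scalar]
    exact map_zero (emb ξ hb (haff W hW))
  { app := fun W hW =>
      { toFun := fun r => φ.app W hW r + d W hW r
        map_one' := by rw [map_one, hzero W hW 1 ⟨1, by rw [map_one, map_one]⟩, add_zero]
        map_mul' := fun a c => by
          have h2 : d W hW a * d W hW c = 0 := emb_mul_emb ξ hb (haff W hW) _ _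
          rw [hmul W hW, map_mul]
          linear_combination -h2
        map_zero' := by rw [map_zero, hzero W hW 0 ⟨0, by rw [map_zero, map_zero]⟩, add_zero]
        map_add' := fun a c => by
          rw [map_add, hadd W hW]
          exact add_add_add_comm _ _ _ _ }
    app_rs := fun W W' hW hW' h r => by
      show φ.app W' hW' (rs η h r) + d W' hW' (rs η h r) = rs ξ h (φ.app W hW r + d W hW r)
      rw [map_add, φ.app_rs W W' hW hW']
      congr 1
      simp only [d]
      rw [rs_emb ξ hb (haff W hW) (haff W' hW') h, red_rs]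
      simp only [tv_res _ h (hP W hW)]
    app_sc := fun W hW a => by
      show φ.app W hW (sc η W a) + d W hW (sc η W a) = _
      rw [φ.app_sc, hzero W hW _ ⟨A.res a, red_sc η W a⟩, add_zero]
    red_app := fun W hW r => by
      show red ξ W (φ.app W hW r + d W hW r) = _
      rw [map_add, φ.red_app, show red ξ W (d W hW r) = 0 from red_emb ξ hb (haff W hW) _, add_zero] }

theorem add_app (φ : Fam g η ξ Bp) (s : Fin n → V1 k X P) (W : X.Opens) (hW : Bp W) (r : S η W) :
    (φ.add hb haff hP s).app W hW r =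
      φ.app W hW r + emb ξ hb (haff W hW) (fun i => tv (s i) W (hP W hW) (red η W r)) := rfl

end Fam

/-- Two families over an affine open which agree modulo `b` differ by vector fields. -/
theorem Fam.exists_diff {g : A ⟶ B} {η : DefSch X (str k X) A} {ξ : DefSch X (str k X) B} {b : Fin n → B}
    (hb : Killed b) (hli : LinearIndependent k b) {V : X.Opens} (hV : IsAffineOpen V) (φ φ' : Fam g η ξ (Af V))
    (h : ∀ r, φ'.app V ⟨hV, le_rfl⟩ r - φ.app V ⟨hV, le_rfl⟩ r ∈ (Ideal.span (Set.range b)).map (sc ξ V)) :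
    ∃ s : Fin n → V1 k X V, ∀ W (hW : Af V W) r,
      φ'.app W hW r = φ.app W hW r + emb ξ hb hW.1 (fun i => tv (s i) W hW.2 (red η W r)) := by
  have hVV : Af V V := ⟨hV, le_rfl⟩
  choose d hd using fun r => exists_emb ξ hb hV (h r)
  have hinj := emb_injective ξ hb hV hli
  have dadd : ∀ a c, d (a + c) = d a + d c := fun a c => hinj (by
    rw [map_add, hd, hd, hd, map_add, map_add]; ring)
  have dmul : ∀ a c, d (a * c) = (fun i => red η V a * d c i + red η V c * d a i) := fun a c => hinj (by
    have e := map_add (emb ξ hb hV) (fun i => red η V a * d c i) (fun i => red η V c * d a i)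
    refine Eq.trans ?_ e.symm
    rw [← φ'.red_app V hVV a, ← φ.red_app V hVV c, ← mul_emb, ← mul_emb, hd, hd, hd, map_mul, map_mul]
    ring)
  have dsc : ∀ a, d (sc η V a) = 0 := fun a => hinj (by
    rw [hd, map_zero, φ'.app_sc, φ.app_sc, sub_self])
  have dred : ∀ r, red η V r = 0 → d r = 0 := fun r hr => by
    rw [red_eq_zero_iff η hV] at hr
    refine Submodule.span_induction (fun z hz => ?_) (by
      have := dsc 0; rwa [map_zero] at this) (fun z w _ _ hz hw => by rw [dadd, hz, hw, add_zero])
      (fun c z hzm hz => ?_) hr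
    · obtain ⟨a, -, rfl⟩ := hz
      exact dsc a
    · rw [smul_eq_mul, dmul, hz]
      have h0 : red η V z = 0 := (red_eq_zero_iff η hV z).2 hzm
      funext i
      rw [h0]
      simp
  have dcongr : ∀ a c, red η V a = red η V c → d a = d c := fun a c e => by
    have := dred (a - c) (by rw [map_sub, e, sub_self])
    have h2 := dadd (a - c) c
    rw [sub_add_cancel, this, zero_add] at h2
    exact h2
  choose l hl using red_surjective η hV
  have hD : ∀ i, ∃ s : V1 k X V, ∀ r, tv s V le_rfl r = d (l r) i := fun i =>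
    exists_tv hV (AddMonoidHom.mk' (fun r => d (l r) i) fun a c => by
        show d (l (a + c)) i = d (l a) i + d (l c) i
        rw [dcongr (l (a + c)) (l a + l c) (by rw [map_add, hl, hl, hl]), dadd]
        rfl)
      (fun a c => by
        show d (l (a * c)) i = a * d (l c) i + c * d (l a) i
        rw [dcongr (l (a * c)) (l a * l c) (by rw [map_mul, hl, hl, hl]), dmul]
        show red η V (l a) * _ + red η V (l c) * _ = _
        rw [hl, hl])
      (fun a => by
        show d (l _) i = 0
        rw [dcongr (l _) (sc η V (algebraMap k A a)) (by rw [hl, red_sc, A.res.commutes]; rfl), dsc]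
        rfl)
  choose s hs using hD
  let φ'' := φ.add hb (fun W (hW : Af V W) => hW.1) (fun W hW => hW.2) s
  refine ⟨s, fun W hW r => ?_⟩
  show φ'.app W hW r = φ''.app W hW r
  refine congr($(r0_ext (isAffineOpen_up η hV) (isAffineOpen_up η hW.1) (up_mono η hW.2)
    (f := φ'.app W hW) (g := φ''.app W hW) ?_) r)
  ext t
  show φ'.app W hW (rs η hW.2 t) = φ''.app W hW (rs η hW.2 t)
  rw [φ'.app_rs V W hVV hW, φ''.app_rs V W hVV hW]
  congr 1
  show _ = φ.app V hVV t + emb ξ hb hV (fun i => tv (s i) V le_rfl (red η V t))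
  have : (fun i => tv (s i) V le_rfl (red η V t)) = d t := funext fun i => by
    rw [hs, dcongr (l (red η V t)) t (hl _)]
  rw [this, hd]
  ring

end Groth.Agent.H24SmDef
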